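import Groth.Agent.H9Algz.GrCompare
import Groth.Agent.PopescuLib.Noetherian
import Groth.Agent.PopescuLib.Approx
import Mathlib.RingTheory.Localization.AtPrime.Basic
import Mathlib.RingTheory.MvPolynomial.Basic
import Mathlib.RingTheory.AdicCompletion.RingHom
import Mathlib.RingTheory.AdicCompletion.LocalRing
import Mathlib.RingTheory.Unramified.Finite
import Mathlib.RingTheory.Unramified.Field
import Mathlib.RingTheory.Etale.Basic

/-!
The completion of a polynomial ring at the origin and its étale neighbourhoods.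
-/

universe u

open IsLocalRing

namespace Groth.Agent.H9Algz

variable (k : Type u) [Field k] (n : ℕ)

/-- The polynomial ring. -/
abbrev Pol := MvPolynomial (Fin n) k

/-- Evaluation at the origin. -/
noncomputable def eval₀ : Pol k n →ₐ[k] k := MvPolynomial.aeval fun _ => (0 : k)

/-- The ideal of the origin. -/
noncomputable def m0 : Ideal (Pol k n) := RingHom.ker (eval₀ k n)

theorem eval₀_surjective : Function.Surjective (eval₀ k n) := fun c => ⟨MvPolynomial.C c, by simp [eval₀]⟩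

instance m0_isMaximal : (m0 k n).IsMaximal :=
  RingHom.ker_isMaximal_of_surjective (eval₀ k n).toRingHom (eval₀_surjective k n)

theorem sub_C_eval₀_mem (p : Pol k n) : p - MvPolynomial.C (eval₀ k n p) ∈ m0 k n := by
  show eval₀ k n (p - MvPolynomial.C (eval₀ k n p)) = 0
  simp [eval₀]

theorem X_mem_m0 (i : Fin n) : MvPolynomial.X i ∈ m0 k n := by
  show eval₀ k n (MvPolynomial.X i) = 0
  simp [eval₀]

/-- The local ring at the origin. -/
abbrev Loc := Localization.AtPrime (m0 k n)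

/-- The completion at the origin. -/
abbrev Cpl := AdicCompletion (maximalIdeal (Loc k n)) (Loc k n)

/-- The maximal ideal of the completion. -/
noncomputable def MT : Ideal (Cpl k n) := (maximalIdeal (Loc k n)).map (algebraMap (Loc k n) (Cpl k n))

theorem maxLoc_fg : (maximalIdeal (Loc k n)).FG := IsNoetherian.noetherian _

instance : IsNoetherianRing (Cpl k n) := Groth.Agent.PopescuLib.noetherian_completion _

variable {k n}

theorem mem_MT_pow_iff (x : Cpl k n) (s : ℕ) :
    x ∈ MT k n ^ s ↔ AdicCompletion.evalₐ (maximalIdeal (Loc k n)) s x = 0 := by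
  rw [MT, ← Ideal.map_pow]
  refine ⟨fun h => ?_, Groth.Agent.PopescuLib.mem_map_of_evalₐ_eq_zero _ (maxLoc_fg k n) s⟩
  exact (Ideal.map_le_iff_le_comap.2 (fun z hz => by
    show AdicCompletion.evalₐ (maximalIdeal (Loc k n)) s (algebraMap (Loc k n) _ z) = 0
    rw [AlgHom.commutes]; exact Ideal.Quotient.eq_zero_iff_mem.2 hz) :
      (maximalIdeal (Loc k n) ^ s).map (algebraMap (Loc k n) (Cpl k n)) ≤
        RingHom.ker (AdicCompletion.evalₐ (maximalIdeal (Loc k n)) s)) h

theorem algebraMap_loc_mem_iff (p : Pol k n) (s : ℕ) :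
    algebraMap (Pol k n) (Loc k n) p ∈ maximalIdeal (Loc k n) ^ s ↔ p ∈ m0 k n ^ s := by
  constructor
  · intro h
    have h1 : (IsLocalization.AtPrime.equivQuotMaximalIdealPow (m0 k n) (Loc k n) s)
        (Ideal.Quotient.mk _ p) = 0 := by
      rw [show Ideal.Quotient.mk (m0 k n ^ s) p = algebraMap (Pol k n) _ p from rfl, AlgEquiv.commutes]
      exact Ideal.Quotient.eq_zero_iff_mem.2 h
    exact Ideal.Quotient.eq_zero_iff_mem.1 ((map_eq_zero_iff _ (AlgEquiv.injective _)).1 h1)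
  · intro h
    rw [← Localization.AtPrime.map_eq_maximalIdeal, ← Ideal.map_pow]
    exact Ideal.mem_map_of_mem _ h

theorem algebraMap_mem_MT_pow_iff (p : Pol k n) (s : ℕ) :
    algebraMap (Pol k n) (Cpl k n) p ∈ MT k n ^ s ↔ p ∈ m0 k n ^ s := by
  rw [mem_MT_pow_iff, ← algebraMap_loc_mem_iff, IsScalarTower.algebraMap_apply (Pol k n) (Loc k n) (Cpl k n),
    AlgHom.commutes]
  exact Ideal.Quotient.eq_zero_iff_mem

theorem exists_pol_sub_mem (t : Cpl k n) (s : ℕ) :
    ∃ p : Pol k n, t - algebraMap (Pol k n) (Cpl k n) p ∈ MT k n ^ s := by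
  obtain ⟨q, hq⟩ := (IsLocalization.AtPrime.equivQuotMaximalIdealPow (m0 k n) (Loc k n) s).surjective
    (AdicCompletion.evalₐ (maximalIdeal (Loc k n)) s t)
  obtain ⟨p, rfl⟩ := Ideal.Quotient.mk_surjective q
  refine ⟨p, ?_⟩
  rw [mem_MT_pow_iff, map_sub, ← hq, show Ideal.Quotient.mk (m0 k n ^ s) p = algebraMap (Pol k n) _ p from rfl,
    AlgEquiv.commutes, IsScalarTower.algebraMap_apply (Pol k n) (Loc k n) (Cpl k n), AlgHom.commutes,
    sub_eq_zero]
  rfl

theorem map_m0_le_MT : (m0 k n).map (algebraMap (Pol k n) (Cpl k n)) ≤ MT k n :=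
  Ideal.map_le_iff_le_comap.2 fun p hp => by
    simpa using (algebraMap_mem_MT_pow_iff p 1).2 (by simpa using hp)

theorem exists_cplHom {R : Type u} [CommRing R] [Algebra k R] [IsLocalRing R] [IsNoetherianRing R]
    [IsAdicComplete (maximalIdeal R) R] (x : Fin n → R) (hx : Ideal.span (Set.range x) = maximalIdeal R)
    (hres : Function.Surjective fun c : k => residue R (algebraMap k R c)) :
    ∃ π : Cpl k n →+* R, Function.Surjective π ∧ (MT k n).map π = maximalIdeal R ∧
      ∀ p : Pol k n, π (algebraMap (Pol k n) (Cpl k n) p) = MvPolynomial.aeval x p := by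
  have hxm : ∀ i, x i ∈ maximalIdeal R := fun i => hx ▸ Ideal.subset_span (Set.mem_range_self i)
  have hconst : ∀ p : Pol k n, MvPolynomial.aeval x p - algebraMap k R (eval₀ k n p) ∈ maximalIdeal R := by
    intro p
    induction p using MvPolynomial.induction_on with
    | C c => simp [eval₀]
    | add p q hp hq => rw [map_add, map_add, map_add, add_sub_add_comm]; exact add_mem hp hq
    | mul_X p i _ =>
      rw [map_mul, MvPolynomial.aeval_X, show eval₀ k n (p * MvPolynomial.X i) = 0 by simp [eval₀], map_zero, sub_zero]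
      exact Ideal.mul_mem_left _ _ (hxm i)
  have hle : m0 k n ≤ (maximalIdeal R).comap (MvPolynomial.aeval (R := k) x).toRingHom := fun p hp => by
    have h1 := hconst p
    rw [show eval₀ k n p = 0 from hp, map_zero, sub_zero] at h1
    exact h1
  have hu : ∀ u : (m0 k n).primeCompl, IsUnit ((MvPolynomial.aeval (R := k) x).toRingHom u) := by
    intro u
    have h0 : eval₀ k n (u : Pol k n) ≠ 0 := u.2
    by_contra hnu
    have h1 : algebraMap k R (eval₀ k n (u : Pol k n)) ∈ maximalIdeal R := by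
      have := sub_mem ((mem_maximalIdeal _).2 hnu) (hconst u)
      simpa using this
    exact (mem_maximalIdeal _).1 h1 ((isUnit_iff_ne_zero.2 h0).map _)
  let πL : Loc k n →+* R := IsLocalization.lift hu
  have hπL : ∀ p, πL (algebraMap (Pol k n) (Loc k n) p) = MvPolynomial.aeval x p := fun p =>
    IsLocalization.lift_eq hu p
  have hπLm : (maximalIdeal (Loc k n)).map πL ≤ maximalIdeal R := by
    rw [← Localization.AtPrime.map_eq_maximalIdeal, Ideal.map_map, Ideal.map_le_iff_le_comap]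
    intro p hp
    show πL (algebraMap (Pol k n) (Loc k n) p) ∈ maximalIdeal R
    rw [hπL]
    exact hle hp
  let fs : (s : ℕ) → Cpl k n →+* R ⧸ maximalIdeal R ^ s := fun s =>
    (Ideal.quotientMap _ πL (Ideal.map_le_iff_le_comap.1 ((Ideal.map_pow πL _ s).le.trans
      (Ideal.pow_right_mono hπLm s)))).comp (AdicCompletion.evalₐ (maximalIdeal (Loc k n)) s).toRingHom
  have hfs : ∀ {a b : ℕ} (hab : a ≤ b), (Ideal.Quotient.factorPow _ hab).comp (fs b) = fs a := by
    intro a b hab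
    refine RingHom.ext fun t => ?_
    obtain ⟨p, hp⟩ := exists_pol_sub_mem t b
    have hb : AdicCompletion.evalₐ (maximalIdeal (Loc k n)) b t = Ideal.Quotient.mk _ (algebraMap (Pol k n) _ p) := by
      rw [mem_MT_pow_iff, map_sub, IsScalarTower.algebraMap_apply (Pol k n) (Loc k n) (Cpl k n),
        AlgHom.commutes, sub_eq_zero] at hp
      exact hp
    have hp' := Ideal.pow_le_pow_right hab hp
    have ha : AdicCompletion.evalₐ (maximalIdeal (Loc k n)) a t = Ideal.Quotient.mk _ (algebraMap (Pol k n) _ p) := by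
      rw [mem_MT_pow_iff, map_sub, IsScalarTower.algebraMap_apply (Pol k n) (Loc k n) (Cpl k n),
        AlgHom.commutes, sub_eq_zero] at hp'
      exact hp'
    simp only [fs, RingHom.comp_apply, AlgHom.toRingHom_eq_coe, RingHom.coe_coe, ha, hb, Ideal.quotientMap_mk,
      Ideal.Quotient.factorPow, Ideal.Quotient.factor_mk]
  let π := IsAdicComplete.liftRingHom (maximalIdeal R) fs hfs
  have hπ : ∀ p, π (algebraMap (Pol k n) (Cpl k n) p) = MvPolynomial.aeval x p := by
    intro p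
    refine (sub_eq_zero.1 (IsHausdorff.haus (inferInstance : IsHausdorff (maximalIdeal R) R) _ fun s => ?_))
    rw [SModEq.zero, smul_eq_mul, Ideal.mul_top, ← Ideal.Quotient.eq_zero_iff_mem, map_sub,
      IsAdicComplete.mk_liftRingHom, sub_eq_zero]
    simp only [fs, RingHom.comp_apply, AlgHom.toRingHom_eq_coe, RingHom.coe_coe,
      IsScalarTower.algebraMap_apply (Pol k n) (Loc k n) (Cpl k n), AlgHom.commutes]
    rw [show algebraMap (Loc k n) (Loc k n ⧸ maximalIdeal (Loc k n) ^ s) (algebraMap (Pol k n) (Loc k n) p) =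
      Ideal.Quotient.mk _ (algebraMap (Pol k n) (Loc k n) p) from rfl, Ideal.quotientMap_mk, hπL]
  have hmap : (MT k n).map π = maximalIdeal R := by
    refine le_antisymm ?_ ?_
    · rw [Ideal.map_le_iff_le_comap]
      intro t ht
      obtain ⟨p, hp⟩ := exists_pol_sub_mem t 1
      show π t ∈ maximalIdeal R
      have h1 : π (t - algebraMap (Pol k n) (Cpl k n) p) ∈ maximalIdeal R := by
        rw [pow_one] at hp
        have : Ideal.Quotient.mk (maximalIdeal R ^ 1) (π (t - algebraMap (Pol k n) (Cpl k n) p)) = 0 := by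
          rw [IsAdicComplete.mk_liftRingHom]
          simp only [fs, RingHom.comp_apply, AlgHom.toRingHom_eq_coe, RingHom.coe_coe]
          rw [(mem_MT_pow_iff _ 1).1 (by simpa using hp), map_zero]
        simpa using Ideal.Quotient.eq_zero_iff_mem.1 this
      have hpm : p ∈ m0 k n := by
        have h2 : algebraMap (Pol k n) (Cpl k n) p ∈ MT k n ^ 1 := by
          rw [pow_one] at hp ⊢; simpa using sub_mem ht hp
        simpa using (algebraMap_mem_MT_pow_iff p 1).1 h2
      rw [map_sub, hπ] at h1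
      simpa using add_mem h1 (hle hpm)
    · rw [← hx, Ideal.span_le]
      rintro _ ⟨i, rfl⟩
      rw [← MvPolynomial.aeval_X (R := k) x i, ← hπ]
      exact Ideal.mem_map_of_mem π (map_m0_le_MT (Ideal.mem_map_of_mem _ (X_mem_m0 k n i)))
  refine ⟨π, ?_, hmap, hπ⟩
  haveI : IsAdicComplete (MT k n) (Cpl k n) := by
    rw [MT, ← AdicCompletion.maximalIdeal_eq_map_of_fg (maxLoc_fg k n)]
    haveI := AdicCompletion.isLocalRing_of_fg (maxLoc_fg k n)
    exact AdicCompletion.isAdicComplete_of_fg (maxLoc_fg k n)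
  haveI : IsHausdorff ((MT k n).map π) R := by rw [hmap]; infer_instance
  refine surjective_of_mk_map_comp_surjective (I := MT k n) π fun w => ?_
  obtain ⟨r, rfl⟩ := Ideal.Quotient.mk_surjective w
  obtain ⟨c, hc⟩ := hres (residue R r)
  refine ⟨algebraMap (Pol k n) (Cpl k n) (MvPolynomial.C c), ?_⟩
  show Ideal.Quotient.mk _ (π _) = _
  rw [hπ, MvPolynomial.aeval_C, Ideal.Quotient.eq, hmap]
  exact Ideal.Quotient.eq.1 hc

variable {E : Type u} [CommRing E] [Algebra (Pol k n) E] (ψ : E →ₐ[Pol k n] Cpl k n)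

/-- The point cut out by a map to the completion. -/
noncomputable def pt : Ideal E := (MT k n).comap ψ

theorem pow_pt_mem {s : ℕ} {e : E} (he : e ∈ pt ψ ^ s) : ψ e ∈ MT k n ^ s :=
  pow_le (β := ψ.toRingHom) Ideal.map_comap_le he

theorem exists_pol_sub_mem_pt (e : E) : ∃ p, e - algebraMap (Pol k n) E p ∈ pt ψ := by
  obtain ⟨p, hp⟩ := exists_pol_sub_mem (ψ e) 1
  refine ⟨p, ?_⟩
  show ψ (e - algebraMap (Pol k n) E p) ∈ MT k n
  rw [map_sub, AlgHom.commutes]
  simpa using hp

theorem pt_le_sup [Algebra.Etale (Pol k n) E] :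
    pt ψ ≤ (m0 k n).map (algebraMap (Pol k n) E) ⊔ pt ψ ^ 2 := by
  let J := (m0 k n).map (algebraMap (Pol k n) E)
  let K := Pol k n ⧸ m0 k n
  letI : Field K := Ideal.Quotient.field _
  letI : Algebra K (E ⧸ J) :=
    (Ideal.quotientMap J (algebraMap (Pol k n) E) Ideal.le_comap_map).toAlgebra
  haveI : IsScalarTower (Pol k n) K (E ⧸ J) := IsScalarTower.of_algebraMap_eq fun p => rfl
  haveI : Algebra.FormallyUnramified (Pol k n) (E ⧸ J) :=
    Algebra.FormallyUnramified.of_surjective (Ideal.Quotient.mkₐ (Pol k n) J) (Ideal.Quotient.mkₐ_surjective _ _)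
  haveI : Algebra.FormallyUnramified K (E ⧸ J) := Algebra.FormallyUnramified.of_restrictScalars (Pol k n) K (E ⧸ J)
  haveI : Algebra.FiniteType (Pol k n) (E ⧸ J) :=
    Algebra.FiniteType.of_surjective (Ideal.Quotient.mkₐ (Pol k n) J) (Ideal.Quotient.mkₐ_surjective _ _)
  haveI : Algebra.FiniteType K (E ⧸ J) := Algebra.FiniteType.of_restrictScalars_finiteType (Pol k n) K (E ⧸ J)
  haveI : Module.Finite K (E ⧸ J) := Algebra.FormallyUnramified.finite_of_free K (E ⧸ J)
  haveI : IsReduced (E ⧸ J) := Algebra.FormallyUnramified.isReduced_of_field K (E ⧸ J)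
  haveI : IsArtinianRing (E ⧸ J) := IsArtinianRing.of_finite K (E ⧸ J)
  intro e he
  let y := Ideal.Quotient.mk J e
  obtain ⟨N, c, hc⟩ : ∃ (N : ℕ) (c : E ⧸ J), y ^ (N + 1) * c = y ^ N := by
    obtain ⟨N, hN⟩ := IsArtinian.range_smul_pow_stabilizes (R := E ⧸ J) (E ⧸ J) y
    obtain ⟨c, hc⟩ : y ^ N ∈ LinearMap.range (y ^ (N + 1) • LinearMap.id : (E ⧸ J) →ₗ[E ⧸ J] (E ⧸ J)) := by
      rw [← hN (N + 1) (Nat.le_succ N)]; exact ⟨1, by simp⟩
    exact ⟨N, c, by simpa using hc⟩
  have h0 : IsNilpotent (y - y ^ 2 * c) := ⟨N + 1, by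
    rw [show y - y ^ 2 * c = y * (1 - y * c) by ring, mul_pow, pow_succ (1 - y * c),
      show y ^ (N + 1) * ((1 - y * c) ^ N * (1 - y * c)) = (1 - y * c) ^ N * y * (y ^ N - y ^ (N + 1) * c) by ring,
      hc, sub_self, mul_zero]⟩
  obtain ⟨c', rfl⟩ := Ideal.Quotient.mk_surjective c
  have h1 : e - e ^ 2 * c' ∈ J := by
    rw [← Ideal.Quotient.eq_zero_iff_mem, map_sub, map_mul, map_pow]
    exact h0.eq_zero
  rw [show e = (e - e ^ 2 * c') + e ^ 2 * c' by ring]
  exact Submodule.mem_sup.2 ⟨_, h1, _, Ideal.mul_mem_right _ _ (Ideal.pow_mem_pow he 2), rfl⟩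

theorem map_m0_le_pt : (m0 k n).map (algebraMap (Pol k n) E) ≤ pt ψ :=
  Ideal.map_le_iff_le_comap.2 fun p hp => by
    show ψ (algebraMap (Pol k n) E p) ∈ MT k n
    rw [AlgHom.commutes]
    exact map_m0_le_MT (Ideal.mem_map_of_mem _ hp)

theorem grSurj_pt [Algebra.Etale (Pol k n) E] : GrSurj (m0 k n) (pt ψ) (algebraMap (Pol k n) E) := by
  refine grSurj_of_le_two _ _ _ (map_m0_le_pt ψ) (exists_pol_sub_mem_pt ψ) fun b hb => ?_
  obtain ⟨j, hj, e, he, rfl⟩ := Submodule.mem_sup.1 (pt_le_sup ψ hb)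
  obtain ⟨p, hp, hpj⟩ : ∃ p ∈ m0 k n, j - algebraMap (Pol k n) E p ∈ pt ψ ^ 2 := by
    refine Submodule.span_induction (fun z hz => ?_) ⟨0, zero_mem _, by simp⟩
      (fun x y _ _ ⟨p, hp, hpx⟩ ⟨q, hq, hqy⟩ =>
        ⟨p + q, add_mem hp hq, by rw [map_add, add_sub_add_comm]; exact add_mem hpx hqy⟩)
      (fun a x _ ⟨p, hp, hpx⟩ => ?_) hj
    · obtain ⟨p, hp, rfl⟩ := hz
      exact ⟨p, hp, by simp⟩
    · obtain ⟨q, hq⟩ := exists_pol_sub_mem_pt ψ a
      refine ⟨q * p, Ideal.mul_mem_left _ _ hp, ?_⟩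
      rw [smul_eq_mul, map_mul, show a * x - algebraMap (Pol k n) E q * algebraMap (Pol k n) E p =
        a * (x - algebraMap (Pol k n) E p) + (a - algebraMap (Pol k n) E q) * algebraMap (Pol k n) E p by ring]
      refine add_mem (Ideal.mul_mem_left _ _ hpx) ?_
      rw [pow_two]
      exact Ideal.mul_mem_mul hq (map_m0_le_pt ψ (Ideal.mem_map_of_mem _ hp))
  exact ⟨p, hp, by rw [add_sub_right_comm]; exact add_mem hpj he⟩

theorem exists_pol_sub_mem_pt_pow [Algebra.Etale (Pol k n) E] :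
    ∀ (s : ℕ) (e : E), ∃ p, e - algebraMap (Pol k n) E p ∈ pt ψ ^ s
  | 0, e => ⟨0, by simp⟩
  | s + 1, e => by
    obtain ⟨p, hp⟩ := exists_pol_sub_mem_pt_pow s e
    obtain ⟨q, -, hq⟩ := (grSurj_pt ψ).surj s _ hp
    exact ⟨p + q, by rwa [map_add, ← sub_sub]⟩

theorem mem_pt_pow_iff [Algebra.Etale (Pol k n) E] {s : ℕ} (e : E) :
    e ∈ pt ψ ^ s ↔ ψ e ∈ MT k n ^ s := by
  refine ⟨pow_pt_mem ψ, fun h => ?_⟩
  obtain ⟨p, hp⟩ := exists_pol_sub_mem_pt_pow ψ s e
  have h1 : algebraMap (Pol k n) (Cpl k n) p ∈ MT k n ^ s := by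
    have := sub_mem h (pow_pt_mem ψ hp)
    rw [map_sub, AlgHom.commutes] at this
    simpa using this
  have h2 := add_mem hp (pow_le (map_m0_le_pt ψ) ((algebraMap_mem_MT_pow_iff p s).1 h1))
  simpa using h2

theorem mem_pt_pow_sup_iff [Algebra.Etale (Pol k n) E] (J : Ideal E) {s : ℕ} (e : E) :
    e ∈ J ⊔ pt ψ ^ s ↔ ψ e ∈ J.map ψ ⊔ MT k n ^ s := by
  constructor
  · intro h
    obtain ⟨j, hj, z, hz, rfl⟩ := Submodule.mem_sup.1 h
    rw [map_add]
    exact Submodule.mem_sup.2 ⟨_, Ideal.mem_map_of_mem ψ hj, _, pow_pt_mem ψ hz, rfl⟩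
  · intro h
    obtain ⟨x, hx, z, hz, hxz⟩ := Submodule.mem_sup.1 h
    obtain ⟨j, hj, hjx⟩ : ∃ j ∈ J, x - ψ j ∈ MT k n ^ s := by
      refine Submodule.span_induction (fun w hw => ?_) ⟨0, zero_mem _, by simp⟩
        (fun a b _ _ ⟨p, hp, hpx⟩ ⟨q, hq, hqy⟩ =>
          ⟨p + q, add_mem hp hq, by rw [map_add, add_sub_add_comm]; exact add_mem hpx hqy⟩)
        (fun a w _ ⟨p, hp, hpx⟩ => ?_) hx
      · obtain ⟨j, hj, rfl⟩ := hw
        exact ⟨j, hj, by simp⟩
      · obtain ⟨q, hq⟩ := exists_pol_sub_mem a s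
        refine ⟨algebraMap (Pol k n) E q * p, Ideal.mul_mem_left _ _ hp, ?_⟩
        rw [smul_eq_mul, map_mul, AlgHom.commutes, show a * w - algebraMap (Pol k n) (Cpl k n) q * ψ p =
          a * (w - ψ p) + (a - algebraMap (Pol k n) (Cpl k n) q) * ψ p by ring]
        exact add_mem (Ideal.mul_mem_left _ _ hpx) (Ideal.mul_mem_right _ _ hq)
    refine Submodule.mem_sup.2 ⟨j, hj, e - j, (mem_pt_pow_iff ψ _).2 ?_, by abel⟩
    rw [map_sub, ← hxz, add_sub_right_comm]
    exact add_mem hjx hz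

end Groth.Agent.H9Algz
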