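import Groth.Agent.PopescuLib.FPColim
import Groth.Agent.PopescuLib.LocalCompletion
import Mathlib.Algebra.Category.CommAlgCat.Basic

/-!
Elements of limit preserving functors on commutative algebras, and finite systems of equations.
-/

universe u

open CategoryTheory Limits

namespace Groth.Agent.H9Algz

open Groth.Agent.PopescuLib

noncomputable section

variable (A B : Type u) [CommRing A] [CommRing B] [Algebra A B]

/-- The diagram of models in `CommAlgCat`. -/
def algDiagram : FPModel A B ⥤ CommAlgCat.{u} A where
  obj X := CommAlgCat.of A X.Alg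
  map f := CommAlgCat.ofHom f.1

/-- Its cocone. -/
def algCocone : Cocone (algDiagram A B) where
  pt := CommAlgCat.of A B
  ι :=
    { app := fun X => CommAlgCat.ofHom X.toB
      naturality := fun X Y f => CommAlgCat.hom_ext f.2 }

/-- Every algebra is the colimit of its models. -/
def algIsColimit : IsColimit (algCocone A B) :=
  isColimitOfReflects (commAlgCatEquivUnder (CommRingCat.of A)).functor (fpIsColimit A B)

theorem exists_model_preimage (F : CommAlgCat.{u} A ⥤ Type u)
    (hF : ∀ (J : Type u) [SmallCategory J] [IsFiltered J], PreservesColimitsOfShape J F)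
    (ξ : F.obj (CommAlgCat.of A B)) :
    ∃ (X : FPModel A B) (ξ₀ : F.obj (CommAlgCat.of A X.Alg)), F.map (CommAlgCat.ofHom X.toB) ξ₀ = ξ := by
  haveI := hF (FPModel A B)
  obtain ⟨X, ξ₀, h⟩ := Types.jointly_surjective_of_isColimit (isColimitOfPreserves F (algIsColimit A B)) ξ
  exact ⟨X, ξ₀, h⟩

end

/-- A finite system of equations over the base, solved approximately in an étale neighbourhood. -/
theorem exists_etale_solution_fintype {R L : Type u} [CommRing R] [CommRing L] [IsNoetherianRing L] [IsLocalRing L]
    [Algebra R L] (hind : Smoothing.IndSmooth R (AdicCompletion (IsLocalRing.maximalIdeal L) L))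
    (happ : ∀ (l : ℕ) (x : Fin l → L), ∃ (R₀ : Type u) (_ : CommRing R₀) (_ : Algebra R R₀), Algebra.Etale R R₀ ∧
      ∃ (ι : R₀ →ₐ[R] L) (r : Fin l → R₀), ∀ i, ι (r i) = x i)
    {V Q : Type*} [Fintype V] [Fintype Q] (F : Q → MvPolynomial V R)
    (a : V → AdicCompletion (IsLocalRing.maximalIdeal L) L)
    (ha : ∀ j, MvPolynomial.aeval a (F j) = 0) (N : ℕ) :
    ∃ (R' : Type u) (_ : CommRing R') (_ : Algebra R R'), Algebra.Etale R R' ∧
      ∃ (ψ : R' →ₐ[R] AdicCompletion (IsLocalRing.maximalIdeal L) L) (b : V → R'),
        (∀ j, MvPolynomial.aeval b (F j) = 0) ∧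
          ∀ i, a i - ψ (b i) ∈ ((IsLocalRing.maximalIdeal L).map
            (algebraMap L (AdicCompletion (IsLocalRing.maximalIdeal L) L))) ^ N := by
  classical
  let e := Fintype.equivFin V
  let q := Fintype.equivFin Q
  obtain ⟨R', _, _, hR', ψ, -, -, -, -, -, b, hb, hab⟩ := exists_etale_solution hind happ
    (fun j => MvPolynomial.rename e (F (q.symm j))) (fun i => a (e.symm i)) (fun j => by
      rw [MvPolynomial.aeval_rename, show (fun i => a (e.symm i)) ∘ ⇑e = a from funext fun v => by simp]
      exact ha _) N
  refine ⟨R', inferInstance, inferInstance, hR', ψ, fun v => b (e v), fun j => ?_, fun i => ?_⟩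
  · have h := hb (q j)
    rw [MvPolynomial.aeval_rename, Equiv.symm_apply_apply] at h
    exact h
  · have h := hab (e i)
    rw [Equiv.symm_apply_apply] at h
    rwa [← Ideal.map_pow]

end Groth.Agent.H9Algz
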