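import Groth.Agent.H9Algz.Perturb
import Groth.Agent.H9Algz.Origin
import Groth.Agent.H9Algz.Preimage
import Groth.Agent.CplFib6.Excellent
import Groth.Agent.CplFib6.GRingStable
import Groth.Agent.RegFS6.NormalPS
import Groth.Agent.PopescuLib.EtalePoint

/-!
Artin's algebraization, approximation step: a finitely generated algebra with the same initial forms.
-/

universe u

open CategoryTheory Limits IsLocalRing MvPolynomial

namespace Groth.Agent.H9Algz

variable (k : Type u) [Field k] (n : ℕ)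

theorem indSmooth_cpl : Smoothing.IndSmooth (Pol k n) (Cpl k n) := by
  haveI : Algebra.FiniteType k (Pol k n) := inferInstance
  have hG : CAlg.IsGRing (Pol k n) :=
    Groth.Agent.CplFib6.isGRing_of_finiteType (Groth.Agent.RegFS6.isGRing_field k) (Pol k n)
  have hL : CAlg.IsGRing (Loc k n) :=
    Groth.Agent.CplFib6.isGRing_localization hG (m0 k n).primeCompl (Loc k n)
  exact Groth.Agent.PopescuLib.indSmooth_of_localization (Loc k n) (m0 k n).primeCompl
    (Groth.Agent.PopescuLib.indSmooth_of_isRegularHom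
      (Groth.Agent.PopescuLib.isRegularHom_completion_of_isGRing hL))

theorem happ_loc (l : ℕ) (x : Fin l → Loc k n) :
    ∃ (R₀ : Type u) (_ : CommRing R₀) (_ : Algebra (Pol k n) R₀), Algebra.Etale (Pol k n) R₀ ∧
      ∃ (ι : R₀ →ₐ[Pol k n] Loc k n) (r : Fin l → R₀), ∀ i, ι (r i) = x i := by
  classical
  choose a s hs using fun i => IsLocalization.exists_mk'_eq (m0 k n).primeCompl (x i)
  let d : Pol k n := ∏ i, (s i : Pol k n)
  have hd : d ∈ (m0 k n).primeCompl := Submonoid.prod_mem _ fun i _ => (s i).2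
  haveI : Algebra.Etale (Pol k n) (Localization.Away d) := Algebra.Etale.of_isLocalizationAway d
  let ι : Localization.Away d →ₐ[Pol k n] Loc k n :=
    ⟨IsLocalization.Away.lift d (g := algebraMap (Pol k n) (Loc k n)) (IsLocalization.map_units (Loc k n) (⟨d, hd⟩ : (m0 k n).primeCompl)),
      fun c => IsLocalization.Away.lift_eq d (IsLocalization.map_units (Loc k n) (⟨d, hd⟩ : (m0 k n).primeCompl)) c⟩
  refine ⟨Localization.Away d, inferInstance, inferInstance, inferInstance, ι,
    fun i => algebraMap (Pol k n) _ (a i * ∏ j ∈ Finset.univ.erase i, (s j : Pol k n)) *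
      IsLocalization.Away.invSelf d, fun i => ?_⟩
  have hdu := IsLocalization.map_units (Loc k n) (⟨d, hd⟩ : (m0 k n).primeCompl)
  refine hdu.mul_left_inj.1 ?_
  rw [map_mul, AlgHom.commutes, ← ι.commutes d, mul_assoc, ← map_mul ι, mul_comm (IsLocalization.Away.invSelf d),
    IsLocalization.Away.mul_invSelf, map_one, mul_one, ι.commutes, ← hs i, map_mul]
  rw [show d = (s i : Pol k n) * ∏ j ∈ Finset.univ.erase i, (s j : Pol k n) from
    (Finset.mul_prod_erase _ _ (Finset.mem_univ i)).symm, map_mul, ← mul_assoc, IsLocalization.mk'_spec]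

variable {k} in
theorem exists_approximation (F : CommAlgCat.{u} k ⥤ Type u)
    (hF : ∀ (J : Type u) [SmallCategory J] [IsFiltered J], PreservesColimitsOfShape J F)
    (R : Type u) [CommRing R] [Algebra k R] [IsLocalRing R] [IsNoetherianRing R]
    [IsAdicComplete (maximalIdeal R) R]
    (hres : Function.Surjective (fun c : k => residue R (algebraMap k R c)))
    (ξ : F.obj (CommAlgCat.of k R)) (N : ℕ) :
    ∃ (A : Type u) (_ : CommRing A) (_ : Algebra k A) (_ : Algebra.FiniteType k A) (m : Ideal A)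
      (_ : m.IsMaximal) (_ : Function.Surjective (fun c : k => Ideal.Quotient.mk m (algebraMap k A c)))
      (n : ℕ) (β₁ : Pol k n →ₐ[k] R) (β₂ : Pol k n →ₐ[k] A),
      GrSurj (m0 k n) (maximalIdeal R) β₁.toRingHom ∧ GrSurj (m0 k n) m β₂.toRingHom ∧
      (∀ (s : ℕ), ∀ p ∈ m0 k n ^ s, (β₁ p ∈ maximalIdeal R ^ (s + 1) ↔ β₂ p ∈ m ^ (s + 1))) ∧
      ∃ (η : F.obj (CommAlgCat.of k A)) (φ : (R ⧸ maximalIdeal R ^ (N + 1)) ≃ₐ[k] (A ⧸ m ^ (N + 1))),
        (∀ p, φ (Ideal.Quotient.mk _ (β₁ p)) = Ideal.Quotient.mk _ (β₂ p)) ∧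
        F.map (CommAlgCat.ofHom (φ.toAlgHom.comp (Ideal.Quotient.mkₐ k (maximalIdeal R ^ (N + 1))))) ξ =
          F.map (CommAlgCat.ofHom (Ideal.Quotient.mkₐ k (m ^ (N + 1)))) η := by
  classical
  obtain ⟨n, x, hx⟩ := Submodule.fg_iff_exists_fin_generating_family.1
    (IsNoetherian.noetherian (maximalIdeal R))
  obtain ⟨π, hπs, hπm, hπ⟩ := exists_cplHom x hx hres
  obtain ⟨X, ξ₀, hξ₀⟩ := exists_model_preimage k R F hF ξ
  obtain ⟨q, h, hh⟩ := Submodule.fg_iff_exists_fin_generating_family.1 X.fg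
  -- lifts of the generators of the model
  choose t ht using fun j : Fin X.n => hπs (X.toB (Ideal.Quotient.mk _ (MvPolynomial.X j)))
  -- presentation of `R` over the completion
  obtain ⟨m, f, hf⟩ := Submodule.fg_iff_exists_fin_generating_family.1 (IsNoetherian.noetherian (RingHom.ker π))
  obtain ⟨r, g, hg⟩ := Submodule.fg_iff_exists_fin_generating_family.1
    (IsNoetherian.noetherian (LinearMap.ker (rowMap f)))
  have hexact : ∀ a, rowMap f a = 0 → a ∈ LinearMap.range (matMap g) := by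
    intro a ha
    obtain ⟨c, hc⟩ := (Submodule.mem_span_range_iff_exists_fun _).1 (show a ∈ Submodule.span _ (Set.range g) from
      hg ▸ (LinearMap.mem_ker.2 ha))
    exact ⟨c, by rw [← hc]; funext i; simp [matMap_apply, Finset.sum_apply]⟩
  obtain ⟨C, hC⟩ := exists_bound (MT k n) f g hexact
  have hkill : ∀ z, π z = 0 ↔ z ∈ Ideal.span (Set.range f) := fun z => by
    rw [show Ideal.span (Set.range f) = RingHom.ker π from hf, RingHom.mem_ker]
  have haev : ∀ p : MvPolynomial (Fin X.n) k, π (aeval t p) = X.toB (Ideal.Quotient.mk _ p) := by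
    intro p
    induction p using MvPolynomial.induction_on with
    | C c =>
      rw [aeval_C, IsScalarTower.algebraMap_apply k (Pol k n) (Cpl k n), hπ, AlgHom.commutes]
      exact (X.toB.commutes c).symm
    | add p p' hp hp' => simp only [map_add, hp, hp']
    | mul_X p j hp => simp only [map_mul, aeval_X, hp, ht]
  have hlift : ∀ l : Fin q, ∃ c : Fin m → Cpl k n, rowMap f c = aeval t (h l) := by
    intro l
    refine exists_eq_rowMap ((hkill _).1 ?_)
    rw [haev, Ideal.Quotient.eq_zero_iff_mem.2 (hh ▸ Submodule.subset_span (Set.mem_range_self l)), map_zero]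
  choose c hc using hlift
  -- the system of equations
  let V := Fin X.n ⊕ (Fin q × Fin m) ⊕ Fin m ⊕ (Fin r × Fin m)
  let vt : Fin X.n → V := Sum.inl
  let vc : Fin q × Fin m → V := fun z => Sum.inr (Sum.inl z)
  let vf : Fin m → V := fun z => Sum.inr (Sum.inr (Sum.inl z))
  let vg : Fin r × Fin m → V := fun z => Sum.inr (Sum.inr (Sum.inr z))
  let eqs : Fin q ⊕ Fin r → MvPolynomial V (Pol k n) := Sum.elim
    (fun l => rename vt (MvPolynomial.map (algebraMap k (Pol k n)) (h l)) -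
      ∑ i, MvPolynomial.X (vc (l, i)) * MvPolynomial.X (vf i))
    (fun s => ∑ i, MvPolynomial.X (vg (s, i)) * MvPolynomial.X (vf i))
  let a₀ : V → Cpl k n :=
    Sum.elim t (Sum.elim (fun z => c z.1 z.2) (Sum.elim f (fun z => g z.1 z.2)))
  have ha₀ : ∀ j, aeval a₀ (eqs j) = 0 := by
    rintro (l | s)
    · simp only [eqs, Sum.elim_inl, map_sub, map_sum, map_mul, aeval_X, aeval_rename, aeval_map_algebraMap]
      rw [show a₀ ∘ vt = t from rfl]
      exact sub_eq_zero.2 (hc l).symm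
    · simp only [eqs, Sum.elim_inr, map_sum, map_mul, aeval_X]
      have h1 : rowMap f (g s) = 0 := LinearMap.mem_ker.1 (hg ▸ Submodule.subset_span (Set.mem_range_self s))
      exact h1
  obtain ⟨E, _, _, hE, ψ, b, hb, hab⟩ := exists_etale_solution_fintype (indSmooth_cpl k n) (happ_loc k n)
    eqs a₀ ha₀ (C + N + 2)
  haveI := hE
  letI algE : Algebra k E := ((algebraMap (Pol k n) E).comp (algebraMap k (Pol k n))).toAlgebra
  haveI : IsScalarTower k (Pol k n) E := IsScalarTower.of_algebraMap_eq fun _ => rfl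
  haveI : Algebra.FiniteType k E := Algebra.FiniteType.trans (R := k) (S := Pol k n) (A := E) inferInstance inferInstance
  let J : Ideal E := Ideal.span (Set.range fun i => b (vf i))
  let f' : Fin m → Cpl k n := fun i => ψ (b (vf i))
  let g' : Fin r → Fin m → Cpl k n := fun s i => ψ (b (vg (s, i)))
  have hdiff : ∀ v, ψ (b v) - a₀ v ∈ MT k n ^ (C + N + 2) := fun v => by
    rw [← neg_sub]; exact neg_mem (hab v)
  have hJmap : J.map ψ = Ideal.span (Set.range f') := by
    rw [Ideal.map_span, ← Set.range_comp]; rfl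
  have hcx : ∀ s, rowMap f' (g' s) = 0 := by
    intro s
    have h1 := congrArg ψ (hb (Sum.inr s))
    simp only [eqs, Sum.elim_inr, map_sum, map_mul, aeval_X, map_zero] at h1
    exact h1
  have hbound := hC f' g' (fun i => Ideal.pow_le_pow_right (by omega) (hdiff (vf i)))
    (fun s i => Ideal.pow_le_pow_right (by omega) (hdiff (vg (s, i)))) hcx
  have hsupN : Ideal.span (Set.range f) ⊔ MT k n ^ (N + 1) = Ideal.span (Set.range f') ⊔ MT k n ^ (N + 1) := by
    have key : ∀ i, f' i - f i ∈ MT k n ^ (N + 1) := fun i =>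
      Ideal.pow_le_pow_right (by omega) (hdiff (vf i))
    refine le_antisymm (sup_le (Ideal.span_le.2 ?_) le_sup_right) (sup_le (Ideal.span_le.2 ?_) le_sup_right)
    · rintro _ ⟨i, rfl⟩
      rw [show f i = f' i - (f' i - f i) by abel]
      exact Submodule.sub_mem _ (Ideal.mem_sup_left (Ideal.subset_span (Set.mem_range_self i)))
        (Ideal.mem_sup_right (key i))
    · rintro _ ⟨i, rfl⟩
      rw [show f' i = f i + (f' i - f i) by abel]
      exact Submodule.add_mem _ (Ideal.mem_sup_left (Ideal.subset_span (Set.mem_range_self i)))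
        (Ideal.mem_sup_right (key i))
  have hJpt : J ≤ pt ψ := Ideal.span_le.2 (by
    rintro _ ⟨i, rfl⟩
    show ψ (b (vf i)) ∈ MT k n
    have h1 : f i ∈ MT k n := by
      obtain ⟨p, hp⟩ := exists_pol_sub_mem (f i) 1
      rw [pow_one] at hp
      have h2 : MvPolynomial.aeval x p ∈ maximalIdeal R := by
        have h3 : π (f i - algebraMap (Pol k n) (Cpl k n) p) ∈ maximalIdeal R :=
          hπm ▸ Ideal.mem_map_of_mem π hp
        rw [map_sub, (hkill _).2 (Ideal.subset_span (Set.mem_range_self i)), hπ, zero_sub] at h3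
        exact neg_mem_iff.1 h3
      have hpm : p ∈ m0 k n := by
        by_contra hpn
        have hc0 : eval₀ k n p ≠ 0 := hpn
        have h4 : π (algebraMap (Pol k n) (Cpl k n) (p - MvPolynomial.C (eval₀ k n p))) ∈ maximalIdeal R :=
          hπm ▸ Ideal.mem_map_of_mem π (map_m0_le_MT (Ideal.mem_map_of_mem _ (sub_C_eval₀_mem k n p)))
        rw [hπ, map_sub, MvPolynomial.aeval_C] at h4
        have h5 := sub_mem h2 h4
        rw [sub_sub_cancel] at h5
        exact (mem_maximalIdeal _).1 h5 ((isUnit_iff_ne_zero.2 hc0).map _)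
      simpa using add_mem hp (map_m0_le_MT (Ideal.mem_map_of_mem _ hpm))
    simpa [a₀, vf] using add_mem h1 (Ideal.pow_le_self (by omega) (hdiff (vf i))))
  let A := E ⧸ J
  let m' : Ideal A := (pt ψ).map (Ideal.Quotient.mk J)
  have hmpow : ∀ (s : ℕ) (e : E), Ideal.Quotient.mk J e ∈ m' ^ s ↔
      ψ e ∈ Ideal.span (Set.range f') ⊔ MT k n ^ s := by
    intro s e
    rw [← Ideal.map_pow, ← Ideal.mem_comap, Ideal.comap_map_of_surjective _ Ideal.Quotient.mk_surjective,
      ← hJmap, ← mem_pt_pow_sup_iff, sup_comm]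
    rw [show Ideal.comap (Ideal.Quotient.mk J) ⊥ = J from (RingHom.ker_eq_comap_bot (Ideal.Quotient.mk J)).symm.trans Ideal.mk_ker]
  have hRpow : ∀ (s : ℕ) (z : Cpl k n), π z ∈ maximalIdeal R ^ s ↔
      z ∈ Ideal.span (Set.range f) ⊔ MT k n ^ s := by
    intro s z
    rw [← hπm, ← Ideal.map_pow, ← Ideal.mem_comap, Ideal.comap_map_of_surjective _ hπs, sup_comm,
      show Ideal.comap π ⊥ = Ideal.span (Set.range f) from (RingHom.ker_eq_comap_bot π).symm.trans hf.symm]
  let β₁ : Pol k n →ₐ[k] R := aeval x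
  let β₂ : Pol k n →ₐ[k] A := (Ideal.Quotient.mkₐ k J).comp (IsScalarTower.toAlgHom k (Pol k n) E)
  have hβ₂ : ∀ p, β₂ p = Ideal.Quotient.mk J (algebraMap (Pol k n) E p) := fun p => rfl
  have hiff₁ : ∀ (s : ℕ) p, β₁ p ∈ maximalIdeal R ^ s ↔
      algebraMap (Pol k n) (Cpl k n) p ∈ Ideal.span (Set.range f) ⊔ MT k n ^ s := fun s p => by
    rw [← hRpow, hπ]
  have hiff₂ : ∀ (s : ℕ) p, β₂ p ∈ m' ^ s ↔
      algebraMap (Pol k n) (Cpl k n) p ∈ Ideal.span (Set.range f') ⊔ MT k n ^ s := fun s p => by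
    rw [hβ₂, hmpow, AlgHom.commutes]
  have hmres : Function.Surjective (fun c : k => Ideal.Quotient.mk m' (algebraMap k A c)) := by
    intro z
    obtain ⟨a, rfl⟩ := Ideal.Quotient.mk_surjective z
    obtain ⟨e, rfl⟩ := Ideal.Quotient.mk_surjective a
    obtain ⟨p, hp⟩ := exists_pol_sub_mem_pt ψ e
    refine ⟨eval₀ k n p, Ideal.Quotient.eq.2 ?_⟩
    show Ideal.Quotient.mk J (algebraMap k E (eval₀ k n p)) - Ideal.Quotient.mk J e ∈ m'
    rw [← map_sub]
    refine Ideal.mem_map_of_mem _ ?_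
    have h1 : algebraMap (Pol k n) E (p - MvPolynomial.C (eval₀ k n p)) ∈ pt ψ :=
      map_m0_le_pt ψ (Ideal.mem_map_of_mem _ (sub_C_eval₀_mem k n p))
    rw [map_sub] at h1
    have h2 := neg_mem (add_mem hp h1)
    rw [show -(e - algebraMap (Pol k n) E p + (algebraMap (Pol k n) E p - algebraMap (Pol k n) E (MvPolynomial.C (eval₀ k n p)))) =
      algebraMap (Pol k n) E (MvPolynomial.C (eval₀ k n p)) - e by abel] at h2
    exact h2
  have hmax : m'.IsMaximal := by
    have hne : m' ≠ ⊤ := by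
      intro htop
      have h1 : (Ideal.Quotient.mk J (1 : E)) ∈ m' ^ 1 := by rw [pow_one, htop]; trivial
      rw [hmpow, map_one, ← hJmap, pow_one] at h1
      have h2 : Ideal.map ψ J ⊔ MT k n ≤ MT k n :=
        sup_le (Ideal.map_le_iff_le_comap.2 hJpt) le_rfl
      have h3 : algebraMap (Pol k n) (Cpl k n) 1 ∈ MT k n ^ 1 := by simpa using h2 h1
      have h4 := (algebraMap_mem_MT_pow_iff (1 : Pol k n) 1).1 h3
      exact (m0_isMaximal k n).ne_top ((Ideal.eq_top_iff_one _).2 (by simpa using h4))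
    haveI : Nontrivial (A ⧸ m') := Ideal.Quotient.nontrivial_iff.2 hne
    let σ := ((Ideal.Quotient.mk m').comp (algebraMap k A))
    have hbij : Function.Bijective σ := ⟨σ.injective, hmres⟩
    exact Ideal.Quotient.maximal_of_isField _
      ((RingEquiv.ofBijective σ hbij).symm.toMulEquiv.isField (Field.toIsField k))
  -- the comparison at order `N`
  let α₁ : Pol k n →ₐ[k] R ⧸ maximalIdeal R ^ (N + 1) := (Ideal.Quotient.mkₐ k _).comp β₁
  let α₂ : Pol k n →ₐ[k] A ⧸ m' ^ (N + 1) := (Ideal.Quotient.mkₐ k _).comp β₂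
  have hα₁ : Function.Surjective α₁ := fun z => by
    obtain ⟨w, rfl⟩ := Ideal.Quotient.mk_surjective z
    obtain ⟨w', rfl⟩ := hπs w
    obtain ⟨p, hp⟩ := exists_pol_sub_mem w' (N + 1)
    refine ⟨p, Ideal.Quotient.eq.2 ?_⟩
    show β₁ p - π w' ∈ _
    rw [← hπ p, ← map_sub, hRpow]
    exact Ideal.mem_sup_right (by rw [← neg_sub]; exact neg_mem hp)
  have hα₂ : Function.Surjective α₂ := fun z => by
    obtain ⟨w, rfl⟩ := Ideal.Quotient.mk_surjective z
    obtain ⟨e, rfl⟩ := Ideal.Quotient.mk_surjective w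
    obtain ⟨p, hp⟩ := exists_pol_sub_mem_pt_pow ψ (N + 1) e
    refine ⟨p, Ideal.Quotient.eq.2 ?_⟩
    show β₂ p - Ideal.Quotient.mk J e ∈ _
    rw [hβ₂, ← map_sub, ← Ideal.map_pow]
    exact Ideal.mem_map_of_mem _ (by rw [← neg_sub]; exact neg_mem hp)
  have hker : RingHom.ker α₁ = RingHom.ker α₂ := by
    ext p
    show Ideal.Quotient.mk _ (β₁ p) = 0 ↔ Ideal.Quotient.mk _ (β₂ p) = 0
    rw [Ideal.Quotient.eq_zero_iff_mem, Ideal.Quotient.eq_zero_iff_mem, hiff₁, hiff₂, hsupN]
  let e₁ := Ideal.quotientKerAlgEquivOfSurjective hα₁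
  let e₂ := Ideal.quotientKerAlgEquivOfSurjective hα₂
  let φ := (e₁.symm.trans (Ideal.quotientEquivAlgOfEq k hker)).trans e₂
  have hφ : ∀ p, φ (α₁ p) = α₂ p := by
    intro p
    show e₂ (Ideal.quotientEquivAlgOfEq k hker (e₁.symm (α₁ p))) = _
    rw [show e₁.symm (α₁ p) = Ideal.Quotient.mk _ p from (AlgEquiv.symm_apply_eq _).2 rfl]
    rfl
  -- the element
  let u₀ : MvPolynomial (Fin X.n) k →ₐ[k] A := aeval fun j => Ideal.Quotient.mk J (b (vt j))
  have hu₀ : ∀ p, u₀ p = Ideal.Quotient.mk J (aeval (fun j => b (vt j)) p) := by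
    intro p
    exact AlgHom.congr_fun (show u₀ = (Ideal.Quotient.mkₐ k J).comp (aeval fun j => b (vt j)) from
      MvPolynomial.algHom_ext fun j => by simp [u₀]) p
  let u : X.Alg →ₐ[k] A := Ideal.Quotient.liftₐ X.I u₀ fun a ha => by
    refine (Ideal.span_le.2 ?_ : Ideal.span (Set.range h) ≤ RingHom.ker u₀) ((SetLike.ext_iff.1 hh a).2 ha)
    rintro _ ⟨l, rfl⟩
    show u₀ (h l) = 0
    rw [hu₀, Ideal.Quotient.eq_zero_iff_mem]
    have h1 := hb (Sum.inl l)
    simp only [eqs, Sum.elim_inl, map_sub, map_sum, map_mul, aeval_X, aeval_rename, aeval_map_algebraMap,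
      sub_eq_zero] at h1
    rw [show (fun j => b (vt j)) = b ∘ vt from rfl, h1]
    exact Ideal.sum_mem _ fun i _ => Ideal.mul_mem_left _ _ (Ideal.subset_span (Set.mem_range_self i))
  refine ⟨A, inferInstance, inferInstance, inferInstance, m', hmax, hmres, n, β₁, β₂, ?_, ?_, ?_,
    F.map (CommAlgCat.ofHom u) ξ₀, φ, hφ, ?_⟩
  · refine ⟨?_, fun s z hz => ?_⟩
    · refine Ideal.map_le_iff_le_comap.2 fun p hp => ?_
      have := (hiff₁ 1 p).2 (Ideal.mem_sup_right (by simpa using map_m0_le_MT (Ideal.mem_map_of_mem _ hp)))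
      simpa using this
    · rw [← hπm, ← Ideal.map_pow] at hz
      obtain ⟨w, hw, rfl⟩ := (Ideal.mem_map_iff_of_surjective π hπs).1 hz
      obtain ⟨p, hp⟩ := exists_pol_sub_mem w (s + 1)
      refine ⟨p, ?_, ?_⟩
      · rw [← algebraMap_mem_MT_pow_iff]
        have := sub_mem hw (Ideal.pow_le_pow_right s.le_succ hp)
        simpa using this
      · show π w - β₁ p ∈ _
        rw [← hπ p, ← map_sub, hRpow]
        exact Ideal.mem_sup_right hp
  · refine ⟨?_, fun s z hz => ?_⟩
    · refine Ideal.map_le_iff_le_comap.2 fun p hp => ?_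
      exact Ideal.mem_map_of_mem (Ideal.Quotient.mk J) (map_m0_le_pt ψ (Ideal.mem_map_of_mem _ hp))
    · rw [← Ideal.map_pow] at hz
      obtain ⟨e, he, rfl⟩ := (Ideal.mem_map_iff_of_surjective _ Ideal.Quotient.mk_surjective).1 hz
      obtain ⟨p, hp, hpe⟩ := (grSurj_pt ψ).surj s e he
      refine ⟨p, hp, ?_⟩
      show Ideal.Quotient.mk J e - Ideal.Quotient.mk J (algebraMap (Pol k n) E p) ∈ _
      rw [← map_sub, ← Ideal.map_pow]
      exact Ideal.mem_map_of_mem _ hpe
  · intro s p hp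
    rw [hiff₁, hiff₂]
    exact hbound s _ ((algebraMap_mem_MT_pow_iff p s).2 hp)
  · rw [← hξ₀, ← Functor.map_comp_apply, ← Functor.map_comp_apply, ← CommAlgCat.ofHom_comp, ← CommAlgCat.ofHom_comp]
    refine congrArg (fun v => F.map (CommAlgCat.ofHom v) ξ₀) ?_
    refine Ideal.Quotient.algHom_ext k (MvPolynomial.algHom_ext fun j => ?_)
    obtain ⟨p, hp⟩ := exists_pol_sub_mem (t j) (N + 1)
    show φ (Ideal.Quotient.mk _ (X.toB (Ideal.Quotient.mk _ (MvPolynomial.X j)))) =
      Ideal.Quotient.mk _ (u (Ideal.Quotient.mk _ (MvPolynomial.X j)))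
    rw [← ht j, show Ideal.Quotient.mk (maximalIdeal R ^ (N + 1)) (π (t j)) = α₁ p from
      Ideal.Quotient.eq.2 (by
        show π (t j) - β₁ p ∈ _
        rw [← hπ p, ← map_sub, hRpow]
        exact Ideal.mem_sup_right hp), hφ]
    refine Ideal.Quotient.eq.2 ?_
    show β₂ p - u₀ (MvPolynomial.X j) ∈ _
    rw [hu₀, aeval_X, hβ₂, ← map_sub, hmpow, map_sub, AlgHom.commutes]
    refine Ideal.mem_sup_right ?_
    have h1 : ψ (b (vt j)) - t j ∈ MT k n ^ (N + 1) :=
      Ideal.pow_le_pow_right (show N + 1 ≤ C + N + 2 by omega) (hdiff (vt j))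
    have h2 := neg_mem (add_mem h1 hp)
    rw [show -(ψ (b (vt j)) - t j + (t j - algebraMap (Pol k n) (Cpl k n) p)) =
      algebraMap (Pol k n) (Cpl k n) p - ψ (b (vt j)) by abel] at h2
    exact h2

end Groth.Agent.H9Algz
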