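import Groth.Prelude.Def_AssocGr
import Mathlib.RingTheory.Ideal.Operations
import Mathlib.RingTheory.Ideal.Quotient.Operations

/-!
Two adically filtered rings receiving the same filtered ring with the same initial forms have the
same associated graded ring.
-/

universe u

open Polynomial

namespace Groth.Agent.H9Algz

variable {P : Type u} [CommRing P] (m₀ : Ideal P) {B : Type u} [CommRing B] (M : Ideal B) (β : P →+* B)

/-- `β` maps `m₀` to `M` and is surjective on every piece of the associated graded ring. -/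
structure GrSurj : Prop where
  map_le : m₀.map β ≤ M
  surj : ∀ (n : ℕ), ∀ b ∈ M ^ n, ∃ p ∈ m₀ ^ n, b - β p ∈ M ^ (n + 1)

theorem pow_le {m₀ : Ideal P} {M : Ideal B} {β : P →+* B} (h : m₀.map β ≤ M) {n : ℕ} {p : P}
    (hp : p ∈ m₀ ^ n) : β p ∈ M ^ n :=
  (Ideal.map_pow β m₀ n ▸ Ideal.pow_right_mono h n) (Ideal.mem_map_of_mem β hp)

theorem grSurj_of_le_two (h : m₀.map β ≤ M) (h0 : ∀ b : B, ∃ p, b - β p ∈ M)
    (h1 : ∀ b ∈ M, ∃ p ∈ m₀, b - β p ∈ M ^ 2) : GrSurj m₀ M β := by
  refine ⟨h, fun n => ?_⟩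
  induction n with
  | zero =>
    intro b _
    obtain ⟨p, hp⟩ := h0 b
    exact ⟨p, by simp, by simpa using hp⟩
  | succ n ih =>
    intro b hb
    rw [pow_succ] at hb
    refine Submodule.mul_induction_on hb (fun a ha c hc => ?_) fun x y ⟨p, hp, hpx⟩ ⟨q, hq, hqy⟩ =>
      ⟨p + q, add_mem hp hq, by rw [map_add, add_sub_add_comm]; exact add_mem hpx hqy⟩
    obtain ⟨p, hp, hpa⟩ := ih a ha
    obtain ⟨q, hq, hqc⟩ := h1 c hc
    refine ⟨p * q, pow_succ m₀ n ▸ Ideal.mul_mem_mul hp hq, ?_⟩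
    rw [map_mul, show a * c - β p * β q = (a - β p) * c + β p * (c - β q) by ring]
    refine add_mem ?_ ?_
    · rw [pow_succ M (n + 1)]; exact Ideal.mul_mem_mul hpa hc
    · rw [show n + 1 + 1 = n + 2 from rfl, pow_add M n 2]
      exact Ideal.mul_mem_mul (pow_le h hp) hqc

/-- Two maps agreeing to second order on `m₀` agree on initial forms. -/
theorem sub_mem_pow_succ {γ : P →+* B} (hβ : m₀.map β ≤ M) (hγ : m₀.map γ ≤ M)
    (h : ∀ p ∈ m₀, γ p - β p ∈ M ^ 2) : ∀ (n : ℕ), 0 < n → ∀ p ∈ m₀ ^ n, γ p - β p ∈ M ^ (n + 1)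
  | 1, _, p, hp => h p (by simpa using hp)
  | n + 2, _, p, hp => by
    rw [pow_succ] at hp
    refine Submodule.mul_induction_on hp (fun a ha c hc => ?_) fun x y hx hy => by
      rw [map_add, map_add, add_sub_add_comm]; exact add_mem hx hy
    have ih := sub_mem_pow_succ hβ hγ h (n + 1) (Nat.succ_pos n) a ha
    rw [map_mul, map_mul, show γ a * γ c - β a * β c = (γ a - β a) * γ c + β a * (γ c - β c) by ring]
    refine add_mem ?_ ?_
    · rw [pow_succ M (n + 2)]
      exact Ideal.mul_mem_mul ih (hγ (Ideal.mem_map_of_mem γ hc))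
    · rw [show n + 2 + 1 = (n + 1) + 2 from rfl, pow_add M (n + 1) 2]
      exact Ideal.mul_mem_mul (pow_le hβ ha) (h c hc)

open FiltBl AssocGr

/-- The induced map from the Rees algebra to the associated graded ring. -/
noncomputable def theta (h : m₀.map β ≤ M) :
    (IdealFiltration.adic m₀).rees →+* GrRing (IdealFiltration.adic M) :=
  (mkG (IdealFiltration.adic M)).toRingHom.comp
    (RingHom.codRestrict ((Polynomial.mapRingHom β).comp (IdealFiltration.adic m₀).rees.val.toRingHom)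
      (IdealFiltration.adic M).rees (fun f => by
        rw [mem_rees_iff]
        intro n
        show (Polynomial.map β (f : P[X])).coeff n ∈ M ^ n
        rw [Polynomial.coeff_map]
        exact pow_le h (f.2 n)))

theorem theta_eq_zero_iff (h : m₀.map β ≤ M) (f : (IdealFiltration.adic m₀).rees) :
    theta m₀ M β h f = 0 ↔ ∀ n, β ((f : P[X]).coeff n) ∈ M ^ (n + 1) := by
  simp only [theta, RingHom.comp_apply, AlgHom.toRingHom_eq_coe, RingHom.coe_coe, mkG_eq_zero_iff,
    mem_succIdeal_iff]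
  refine forall_congr' fun n => ?_
  show (Polynomial.map β (f : P[X])).coeff n ∈ M ^ (n + 1) ↔ _
  rw [Polynomial.coeff_map]

theorem theta_monom (h : m₀.map β ≤ M) {n : ℕ} (p : P) (hp : p ∈ m₀ ^ n) :
    theta m₀ M β h (monom (IdealFiltration.adic m₀) n ⟨p, hp⟩ : (IdealFiltration.adic m₀).rees) =
      (inDeg (IdealFiltration.adic M) n ⟨β p, pow_le h hp⟩ : GrRing _) := by
  rw [coe_inDeg]
  show mkG _ _ = mkG _ _
  congr 1
  apply Subtype.ext
  show Polynomial.map β (monomial n p) = monomial n (β p)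
  exact Polynomial.map_monomial β

theorem exists_theta_monom {h : GrSurj m₀ M β} {n : ℕ} (x : GrRing (IdealFiltration.adic M))
    (hx : x ∈ gr (IdealFiltration.adic M) n) : ∃ p, ∃ hp : p ∈ m₀ ^ n,
    theta m₀ M β h.map_le (monom (IdealFiltration.adic m₀) n ⟨p, hp⟩ : (IdealFiltration.adic m₀).rees) = x := by
  obtain ⟨⟨y, hy⟩, hyx⟩ := inDeg_surjective (IdealFiltration.adic M) n ⟨x, hx⟩
  obtain ⟨p, hp, hpy⟩ := h.surj n y hy
  refine ⟨p, hp, ?_⟩
  rw [theta_monom]
  rw [show x = ((⟨x, hx⟩ : gr (IdealFiltration.adic M) n) : GrRing _) from rfl, ← hyx]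
  refine congrArg Subtype.val (sub_eq_zero.1 ?_)
  rw [← map_sub, inDeg_eq_zero_iff]
  show β p - y ∈ M ^ (n + 1)
  rw [← neg_sub]
  exact neg_mem hpy

theorem theta_surjective (h : GrSurj m₀ M β) : Function.Surjective (theta m₀ M β h.map_le) := by
  intro x
  obtain ⟨f, rfl⟩ := mkG_surjective _ x
  show mkG _ f ∈ (theta m₀ M β h.map_le).range
  rw [← sum_term _ f, map_sum]
  refine Subring.sum_mem _ fun n _ => ?_
  obtain ⟨p, hp, hpx⟩ := exists_theta_monom m₀ M β (h := h) _ (mkG_mem_gr _ (term_mem_deg _ f n))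
  exact ⟨_, hpx⟩

variable {B' : Type u} [CommRing B'] (M' : Ideal B') (β' : P →+* B')

/-- The same initial forms give the same associated graded ring. -/
theorem exists_grEquiv (h : GrSurj m₀ M β) (h' : GrSurj m₀ M' β')
    (hiff : ∀ (n : ℕ), ∀ p ∈ m₀ ^ n, (β p ∈ M ^ (n + 1) ↔ β' p ∈ M' ^ (n + 1))) :
    ∃ e : GrRing (IdealFiltration.adic M) ≃+* GrRing (IdealFiltration.adic M'),
      (∀ (n : ℕ) (x : GrRing (IdealFiltration.adic M)),
        x ∈ gr (IdealFiltration.adic M) n → e x ∈ gr (IdealFiltration.adic M') n) ∧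
      ∀ p : P, e (algebraMap B _ (β p)) = algebraMap B' _ (β' p) := by
  let θ := theta m₀ M β h.map_le
  let θ' := theta m₀ M' β' h'.map_le
  have hker : RingHom.ker θ = RingHom.ker θ' := by
    ext f
    rw [RingHom.mem_ker, RingHom.mem_ker, theta_eq_zero_iff, theta_eq_zero_iff]
    exact forall_congr' fun n => hiff n _ (f.2 n)
  let e := ((RingHom.quotientKerEquivOfSurjective (theta_surjective m₀ M β h)).symm.trans
    (Ideal.quotEquivOfEq hker)).trans
      (RingHom.quotientKerEquivOfSurjective (theta_surjective m₀ M' β' h'))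
  have he : ∀ f, e (θ f) = θ' f := by
    intro f
    show (RingHom.quotientKerEquivOfSurjective (theta_surjective m₀ M' β' h'))
      (Ideal.quotEquivOfEq hker ((RingHom.quotientKerEquivOfSurjective (theta_surjective m₀ M β h)).symm (θ f))) = _
    rw [show (RingHom.quotientKerEquivOfSurjective (theta_surjective m₀ M β h)).symm (θ f) =
        Ideal.Quotient.mk _ f from (RingEquiv.symm_apply_eq _).2
          (RingHom.quotientKerEquivOfSurjective_apply_mk _ f).symm, Ideal.quotEquivOfEq_mk,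
      RingHom.quotientKerEquivOfSurjective_apply_mk]
  refine ⟨e, fun n x hx => ?_, fun p => ?_⟩
  · obtain ⟨p, hp, rfl⟩ := exists_theta_monom m₀ M β (h := h) x hx
    rw [he, theta_monom]
    exact SetLike.coe_mem _
  · rw [AssocGr.algebraMap_eq, AssocGr.algebraMap_eq]
    have hp : p ∈ m₀ ^ 0 := by simp
    have h1 := he (monom (IdealFiltration.adic m₀) 0 ⟨p, hp⟩ : (IdealFiltration.adic m₀).rees)
    rw [theta_monom, theta_monom] at h1
    exact h1

end Groth.Agent.H9Algz
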