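import Mathlib.RingTheory.Filtration
import Mathlib.LinearAlgebra.Pi
import Mathlib.LinearAlgebra.StdBasis

/-!
Initial forms of an ideal are stable under small perturbations of a presentation
(Conrad–de Jong's lemma for Artin's algebraization).
-/

universe u

namespace Groth.Agent.H9Algz

variable {T : Type u} [CommRing T] (M : Ideal T) {m r : ℕ}

/-- The linear map attached to a row. -/
def rowMap (f : Fin m → T) : (Fin m → T) →ₗ[T] T where
  toFun a := ∑ i, a i * f i
  map_add' a b := by simp [add_mul, Finset.sum_add_distrib]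
  map_smul' c a := by simp [Finset.mul_sum, mul_assoc]

/-- The linear map attached to a matrix of rows. -/
def matMap (g : Fin r → Fin m → T) : (Fin r → T) →ₗ[T] (Fin m → T) where
  toFun b i := ∑ s, b s * g s i
  map_add' a b := by ext i; simp [add_mul, Finset.sum_add_distrib]
  map_smul' c a := by ext i; simp [Finset.mul_sum, mul_assoc]

theorem rowMap_apply (f a : Fin m → T) : rowMap f a = ∑ i, a i * f i := rfl

theorem matMap_apply (g : Fin r → Fin m → T) (b : Fin r → T) (i : Fin m) :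
    matMap g b i = ∑ s, b s * g s i := rfl

theorem mem_smul_top_pi {n : ℕ} (J : Ideal T) (a : Fin n → T) :
    a ∈ J • (⊤ : Submodule T (Fin n → T)) ↔ ∀ i, a i ∈ J := by
  classical
  constructor
  · intro h i
    refine Submodule.smul_induction_on h (fun c hc x _ => ?_) fun x y hx hy => J.add_mem hx hy
    exact J.mul_mem_right _ hc
  · intro h
    rw [pi_eq_sum_univ a]
    exact Submodule.sum_mem _ fun i _ => Submodule.smul_mem_smul (h i) trivial

theorem rowMap_mem {j : ℕ} {f : Fin m → T} {K : Ideal T} (hf : ∀ i, f i ∈ K) {a : Fin m → T}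
    (ha : ∀ i, a i ∈ M ^ j) : rowMap f a ∈ M ^ j * K :=
  Ideal.sum_mem (t := Finset.univ) _ fun i _ => Ideal.mul_mem_mul (ha i) (hf i)

theorem rowMap_mem_range (f a : Fin m → T) : rowMap f a ∈ Ideal.span (Set.range f) :=
  Ideal.sum_mem (t := Finset.univ) _ fun i _ => Ideal.mul_mem_left _ (a i) (Ideal.subset_span (Set.mem_range_self i))

theorem exists_eq_rowMap {f : Fin m → T} {x : T} (hx : x ∈ Ideal.span (Set.range f)) :
    ∃ a, rowMap f a = x := (Ideal.mem_span_range_iff_exists_fun).1 hx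

variable [IsNoetherianRing T]

/-- Artin–Rees for the range of a linear map between finite free modules. -/
theorem exists_artinRees {a b : ℕ} (F : (Fin a → T) →ₗ[T] (Fin b → T)) :
    ∃ c : ℕ, ∀ (n : ℕ) (z : Fin b → T), z ∈ LinearMap.range F → (∀ i, z i ∈ M ^ n) →
      ∃ w, (∀ i, w i ∈ M ^ (n - c)) ∧ F w = z := by
  obtain ⟨c, hc⟩ := Ideal.exists_pow_inf_eq_pow_smul M (LinearMap.range F)
  refine ⟨c, fun n z hz hzn => ?_⟩
  have hle : z ∈ M ^ (n - c) • LinearMap.range F := by
    rcases le_or_gt c n with h | h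
    · have h1 : z ∈ M ^ n • (⊤ : Submodule T (Fin b → T)) ⊓ LinearMap.range F :=
        ⟨(mem_smul_top_pi _ z).2 hzn, hz⟩
      rw [hc n h] at h1
      exact Submodule.smul_mono le_rfl inf_le_right h1
    · rw [Nat.sub_eq_zero_of_le h.le, pow_zero, Ideal.one_eq_top, Submodule.top_smul]
      exact hz
  rw [← Submodule.map_top, ← Submodule.map_smul''] at hle
  obtain ⟨w, hw, rfl⟩ := hle
  exact ⟨w, (mem_smul_top_pi _ w).1 hw, rfl⟩

/-- Artin–Rees for an ideal given by generators. -/
theorem exists_artinRees_row (f : Fin m → T) :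
    ∃ c : ℕ, ∀ (n : ℕ) (z : T), z ∈ Ideal.span (Set.range f) → z ∈ M ^ n →
      ∃ w, (∀ i, w i ∈ M ^ (n - c)) ∧ rowMap f w = z := by
  obtain ⟨c, hc⟩ := exists_artinRees M (LinearMap.pi fun _ : Fin 1 => rowMap f)
  refine ⟨c, fun n z hz hzn => ?_⟩
  obtain ⟨a, rfl⟩ := exists_eq_rowMap hz
  obtain ⟨w, hw, hwz⟩ := hc n (fun _ => rowMap f a) ⟨a, rfl⟩ fun _ => hzn
  exact ⟨w, hw, congrFun hwz 0⟩

/-- A bound beyond which perturbations of an exact presentation keep the initial forms. -/
theorem exists_bound (f : Fin m → T) (g : Fin r → Fin m → T)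
    (hexact : ∀ a, rowMap f a = 0 → a ∈ LinearMap.range (matMap g)) :
    ∃ C : ℕ, ∀ (f' : Fin m → T) (g' : Fin r → Fin m → T),
      (∀ i, f' i - f i ∈ M ^ (C + 1)) → (∀ s i, g' s i - g s i ∈ M ^ (C + 1)) →
      (∀ s, rowMap f' (g' s) = 0) →
      ∀ (n : ℕ) (z : T), z ∈ M ^ n →
        (z ∈ Ideal.span (Set.range f) ⊔ M ^ (n + 1) ↔ z ∈ Ideal.span (Set.range f') ⊔ M ^ (n + 1)) := by
  obtain ⟨c₁, hc₁⟩ := exists_artinRees_row M f
  obtain ⟨c₂, hc₂⟩ := exists_artinRees M (matMap g)
  refine ⟨c₁ + c₂, fun f' g' hf hg hcx n z hzn => ?_⟩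
  have hrow : ∀ a, rowMap f' a - rowMap f a = ∑ i, a i * (f' i - f i) := fun a => by
    simp [rowMap_apply, mul_sub, Finset.sum_sub_distrib]
  have hdiff : ∀ (j : ℕ) (a : Fin m → T), (∀ i, a i ∈ M ^ j) →
      rowMap f' a - rowMap f a ∈ M ^ (j + (c₁ + c₂ + 1)) := fun j a ha => by
    rw [hrow, pow_add]
    exact Ideal.sum_mem _ fun i _ => Ideal.mul_mem_mul (ha i) (hf i)
  have hsplit : ∀ {I : Ideal T}, z ∈ I ⊔ M ^ (n + 1) →
      ∃ x, x ∈ I ∧ x ∈ M ^ n ∧ z - x ∈ M ^ (n + 1) := by
    intro I h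
    obtain ⟨x, hx, e, he, rfl⟩ := Submodule.mem_sup.1 h
    refine ⟨x, hx, ?_, by simpa using he⟩
    simpa using sub_mem hzn (Ideal.pow_le_pow_right n.le_succ he)
  constructor
  · intro h
    obtain ⟨x, hx, hxn, hzx⟩ := hsplit h
    obtain ⟨a, ha, rfl⟩ := hc₁ n x hx hxn
    refine Submodule.mem_sup.2 ⟨rowMap f' a, rowMap_mem_range _ _, z - rowMap f' a, ?_, by abel⟩
    rw [show z - rowMap f' a = (z - rowMap f a) - (rowMap f' a - rowMap f a) by abel]
    exact sub_mem hzx (Ideal.pow_le_pow_right (by omega) (hdiff _ a ha))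
  · intro h
    obtain ⟨y, hy, hyn, hzy⟩ := hsplit h
    have key : ∀ j, j ≤ n - c₁ → ∃ a, (∀ i, a i ∈ M ^ j) ∧ rowMap f' a = y := by
      intro j
      induction j with
      | zero =>
        intro _
        obtain ⟨a, ha⟩ := exists_eq_rowMap hy
        exact ⟨a, fun i => by simp, ha⟩
      | succ j ih =>
        intro hj
        obtain ⟨a, ha, hay⟩ := ih (by omega)
        have h1 : rowMap f a ∈ M ^ (j + 1 + c₁) := by
          rw [show rowMap f a = y - (rowMap f' a - rowMap f a) by rw [hay]; abel]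
          exact sub_mem (Ideal.pow_le_pow_right (by omega) hyn) (Ideal.pow_le_pow_right (by omega) (hdiff j a ha))
        obtain ⟨a', ha', haa'⟩ := hc₁ _ _ (rowMap_mem_range f a) h1
        rw [Nat.add_sub_cancel] at ha'
        have hd : ∀ i, (a - a') i ∈ M ^ j := fun i =>
          sub_mem (ha i) (Ideal.pow_le_pow_right j.le_succ (ha' i))
        obtain ⟨b, hb, hbd⟩ := hc₂ j (a - a') (hexact _ (by rw [map_sub, haa', sub_self])) hd
        refine ⟨a - matMap g' b, fun i => ?_, ?_⟩
        · have h2 : (a - matMap g' b) i = a' i - ∑ s, b s * (g' s i - g s i) := by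
            have h3 := congrFun hbd i
            simp only [Pi.sub_apply, matMap_apply, mul_sub, Finset.sum_sub_distrib] at h3 ⊢
            rw [h3]; abel
          rw [h2]
          refine sub_mem (ha' i) (Ideal.pow_le_pow_right (show j + 1 ≤ (j - c₂) + (c₁ + c₂ + 1) by omega) ?_)
          rw [pow_add]
          exact Ideal.sum_mem _ fun s _ => Ideal.mul_mem_mul (hb s) (hg s i)
        · have h4 : rowMap f' (matMap g' b) = 0 := by
            have h5 : matMap g' b = ∑ s, b s • g' s := by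
              funext i; simp [matMap_apply, Finset.sum_apply]
            rw [h5, map_sum]
            exact Finset.sum_eq_zero fun s _ => by rw [map_smul, hcx, smul_zero]
          rw [map_sub, h4, sub_zero, hay]
    obtain ⟨a, ha, hay⟩ := key _ le_rfl
    refine Submodule.mem_sup.2 ⟨rowMap f a, rowMap_mem_range _ _, z - rowMap f a, ?_, by abel⟩
    rw [show z - rowMap f a = (z - y) + (rowMap f' a - rowMap f a) by rw [hay]; abel]
    exact add_mem hzy (Ideal.pow_le_pow_right (by omega) (hdiff _ a ha))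

end Groth.Agent.H9Algz
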