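import Groth.Agent.H9Algz.Approx
import Mathlib.RingTheory.Artinian.Ring

/-!
Artin's algebraization of a versal formal element.
-/

universe u

open CategoryTheory Limits IsLocalRing

namespace Groth.Agent.H9Algz

section Quot

variable {A : Type u} [CommRing A] (m : Ideal A) [m.IsMaximal] (s : ℕ) (hs : 0 < s)

include hs in
theorem isMaximal_map_quot : (m.map (Ideal.Quotient.mk (m ^ s))).IsMaximal :=
  Ideal.IsMaximal.map_of_surjective_of_ker_le (Ideal.Quotient.mk_surjective)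
    (by rw [Ideal.mk_ker]; exact Ideal.pow_le_self (by omega))

include hs in
theorem isLocalRing_quot : IsLocalRing (A ⧸ m ^ s) := by
  refine IsLocalRing.of_unique_max_ideal ⟨m.map (Ideal.Quotient.mk _), isMaximal_map_quot m s hs, fun M hM => ?_⟩
  refine (hM.eq_of_le (isMaximal_map_quot m s hs).ne_top ?_)
  intro z hz
  obtain ⟨a, rfl⟩ := Ideal.Quotient.mk_surjective z
  refine Ideal.mem_map_of_mem _ ?_
  by_contra ha
  obtain ⟨b, i, hi, hb⟩ := Ideal.IsMaximal.exists_inv ‹m.IsMaximal› ha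
  have h1 : Ideal.Quotient.mk (m ^ s) i ∈ M := hM.isPrime.mem_of_pow_mem s (by
    rw [← map_pow, Ideal.Quotient.eq_zero_iff_mem.2 (Ideal.pow_mem_pow hi _)]; exact zero_mem _)
  refine hM.ne_top ((Ideal.eq_top_iff_one _).2 ?_)
  rw [← map_one (Ideal.Quotient.mk (m ^ s)), ← hb, map_add, map_mul]
  exact add_mem (Ideal.mul_mem_left _ _ hz) h1

include hs in
theorem isArtinianRing_quot [IsNoetherianRing A] : IsArtinianRing (A ⧸ m ^ s) := by
  haveI := isLocalRing_quot m s hs
  rw [isArtinianRing_iff_isNilpotent_maximalIdeal]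
  refine ⟨s, ?_⟩
  rw [← IsLocalRing.eq_maximalIdeal (isMaximal_map_quot m s hs), ← Ideal.map_pow, Ideal.map_quotient_self]
  rfl

theorem mk_mem_map_pow_iff (a : A) {j t : ℕ} (hj : j ≤ t) :
    Ideal.Quotient.mk (m ^ t) a ∈ (m.map (Ideal.Quotient.mk (m ^ t))) ^ j ↔ a ∈ m ^ j := by
  rw [← Ideal.map_pow, ← Ideal.mem_comap, Ideal.comap_map_of_surjective _ Ideal.Quotient.mk_surjective,
    ← RingHom.ker_eq_comap_bot, Ideal.mk_ker, sup_eq_left.2 (Ideal.pow_le_pow_right hj)]

end Quot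

variable {k : Type u} [Field k]

/-- A compatible family of maps with the right initial forms gives an isomorphism to the completion. -/
theorem exists_formal_iso {R : Type u} [CommRing R] [Algebra k R] [IsLocalRing R] [IsNoetherianRing R]
    [IsAdicComplete (maximalIdeal R) R] {A : Type u} [CommRing A] [Algebra k A] (m : Ideal A) [m.IsMaximal]
    (hmres : Function.Surjective (fun c : k => Ideal.Quotient.mk m (algebraMap k A c)))
    {n : ℕ} (β₁ : Pol k n →ₐ[k] R) (β₂ : Pol k n →ₐ[k] A)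
    (hs₁ : GrSurj (m0 k n) (maximalIdeal R) β₁.toRingHom) (hs₂ : GrSurj (m0 k n) m β₂.toRingHom)
    (hiff : ∀ (s : ℕ), ∀ p ∈ m0 k n ^ s, (β₁ p ∈ maximalIdeal R ^ (s + 1) ↔ β₂ p ∈ m ^ (s + 1)))
    (G : ∀ s, R →ₐ[k] A ⧸ m ^ (s + 2)) (hG0 : ∀ p, G 0 (β₁ p) = Ideal.Quotient.mk _ (β₂ p))
    (hG : ∀ {i j : ℕ} (h : i ≤ j) (x : R),
      Ideal.Quotient.factorₐ k (Ideal.pow_le_pow_right (show i + 2 ≤ j + 2 by omega)) (G j x) = G i x) :
    ∃ α : R ≃+* AdicCompletion m A,
      (∀ c : k, α (algebraMap k R c) = algebraMap A (AdicCompletion m A) (algebraMap k A c)) ∧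
      ∀ t x, AdicCompletion.evalₐ m t (α x) =
        Ideal.Quotient.factorₐ k (Ideal.pow_le_pow_right (show t ≤ t + 2 by omega)) (G t x) := by
  classical
  let fac : ∀ {i j : ℕ}, i ≤ j → (A ⧸ m ^ j) →ₐ[k] (A ⧸ m ^ i) := fun h =>
    Ideal.Quotient.factorₐ k (Ideal.pow_le_pow_right h)
  have hfac : ∀ {i j : ℕ} (h : i ≤ j) (a : A), fac h (Ideal.Quotient.mk _ a) = Ideal.Quotient.mk _ a :=
    fun h a => rfl
  let M : ∀ t, Ideal (A ⧸ m ^ t) := fun t => m.map (Ideal.Quotient.mk _)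
  have hG1 : ∀ (s : ℕ) (p : Pol k n), (G s) (β₁ p) - Ideal.Quotient.mk _ (β₂ p) ∈ M (s + 2) ^ 2 := by
    intro s p
    obtain ⟨a, ha⟩ := Ideal.Quotient.mk_surjective ((G s) (β₁ p))
    rw [← ha, ← map_sub, mk_mem_map_pow_iff m _ (by omega)]
    have h1 := hG (Nat.zero_le s) (β₁ p)
    rw [← ha, hG0] at h1
    exact Ideal.Quotient.eq.1 h1
  have hloc : ∀ (s : ℕ) (x : R), (G s) x ∈ M (s + 2) ↔ x ∈ maximalIdeal R := by
    intro s
    have hmax : ((M (s + 2)).comap (G s)).IsMaximal := by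
      haveI : (M (s + 2)).IsMaximal := isMaximal_map_quot m (s + 2) (by omega)
      letI := Ideal.Quotient.field (M (s + 2))
      have hker : RingHom.ker ((Ideal.Quotient.mk (M (s + 2))).comp (G s).toRingHom) =
          (M (s + 2)).comap (G s) := by
        ext x
        exact Ideal.Quotient.eq_zero_iff_mem
      rw [← hker]
      refine RingHom.ker_isMaximal_of_surjective _ fun z => ?_
      obtain ⟨w, rfl⟩ := Ideal.Quotient.mk_surjective z
      obtain ⟨a, rfl⟩ := Ideal.Quotient.mk_surjective w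
      obtain ⟨c, hc⟩ := hmres (Ideal.Quotient.mk m a)
      refine ⟨algebraMap k R c, Ideal.Quotient.eq.2 ?_⟩
      show (G s) (algebraMap k R c) - Ideal.Quotient.mk _ a ∈ M (s + 2)
      rw [AlgHom.commutes, ← Ideal.Quotient.mk_algebraMap, ← map_sub]
      exact Ideal.mem_map_of_mem _ (Ideal.Quotient.eq.1 hc)
    intro x
    rw [← IsLocalRing.eq_maximalIdeal hmax, Ideal.mem_comap]
  have hlin : ∀ (s j : ℕ), ∀ p ∈ m0 k n ^ (j + 1),
      (G s) (β₁ p) - Ideal.Quotient.mk _ (β₂ p) ∈ M (s + 2) ^ (j + 2) := by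
    intro s j p hp
    refine sub_mem_pow_succ (m₀ := m0 k n) (M := M (s + 2)) (β := (Ideal.Quotient.mk _).comp β₂.toRingHom)
      (γ := (G s).toRingHom.comp β₁.toRingHom) ?_ ?_ (fun q _ => hG1 s q) (j + 1) (Nat.succ_pos j) p hp
    · rw [← Ideal.map_map]; exact Ideal.map_mono hs₂.map_le
    · rw [Ideal.map_le_iff_le_comap]
      intro q hq
      exact (hloc s _).2 (hs₁.map_le (Ideal.mem_map_of_mem _ hq))
  have hinj : ∀ (s : ℕ) (x : R), (G s) x = 0 → ∀ j, j ≤ s + 2 → x ∈ maximalIdeal R ^ j := by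
    intro s x hx j
    induction j with
    | zero => intro _; simp
    | succ j ih =>
      intro hj
      rcases Nat.eq_zero_or_pos j with rfl | hjpos
      · simpa using (hloc s x).1 (by rw [hx]; exact zero_mem _)
      obtain ⟨j', rfl⟩ : ∃ j', j = j' + 1 := ⟨j - 1, by omega⟩
      obtain ⟨p, hp, hxp⟩ := hs₁.surj (j' + 1) x (ih (by omega))
      have h1 : (G s) (x - β₁ p) ∈ M (s + 2) ^ (j' + 1 + 1) :=
        pow_le (β := (G s).toRingHom) (M := M (s + 2)) (Ideal.map_le_iff_le_comap.2 fun y hy => show (G s) y ∈ M (s + 2) from (hloc s y).2 hy) hxp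
      rw [map_sub, hx, zero_sub] at h1
      have h2 := sub_mem (neg_mem_iff.1 h1) (hlin s j' p hp)
      rw [sub_sub_cancel, mk_mem_map_pow_iff m _ hj] at h2
      have h3 := add_mem hxp ((hiff (j' + 1) p hp).2 h2)
      simpa using h3
  have hsurj : ∀ (s : ℕ) (a : A), ∃ x, (G s) x = Ideal.Quotient.mk _ a := by
    intro s a
    suffices ∀ i j, i + j = s + 2 → ∀ b ∈ m ^ j, ∃ x, (G s) x = Ideal.Quotient.mk _ b by
      exact this (s + 2) 0 (by omega) a (by simp)
    intro i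
    induction i with
    | zero =>
      intro j hj b hb
      rw [zero_add] at hj
      subst hj
      exact ⟨0, by rw [map_zero, Ideal.Quotient.eq_zero_iff_mem.2 hb]⟩
    | succ i ih =>
      intro j hj b hb
      rcases Nat.eq_zero_or_pos j with rfl | hjpos
      · obtain ⟨c, hc⟩ := hmres (Ideal.Quotient.mk m b)
        have hbc : b - algebraMap k A c ∈ m ^ 1 := by
          rw [pow_one]; exact Ideal.Quotient.eq.1 hc.symm
        obtain ⟨x, hx⟩ := ih 1 (by omega) _ hbc
        refine ⟨x + algebraMap k R c, ?_⟩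
        rw [map_add, hx, AlgHom.commutes, map_sub, ← Ideal.Quotient.mk_algebraMap, sub_add_cancel]
      obtain ⟨j', rfl⟩ : ∃ j', j = j' + 1 := ⟨j - 1, by omega⟩
      obtain ⟨p, hp, hpb⟩ := hs₂.surj (j' + 1) b hb
      obtain ⟨d, hd⟩ := Ideal.Quotient.mk_surjective ((G s) (β₁ p))
      have h1 : d - β₂ p ∈ m ^ (j' + 2) := by
        have := hlin s j' p hp
        rw [← hd, ← map_sub, mk_mem_map_pow_iff m _ (by omega)] at this
        exact this
      obtain ⟨x, hx⟩ := ih (j' + 2) (by omega) ((b - β₂ p) - (d - β₂ p)) (sub_mem hpb h1)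
      exact ⟨x + β₁ p, by rw [map_add, hx, ← hd, ← map_add]; congr 1; ring⟩
  let f : (t : ℕ) → R →ₐ[k] A ⧸ m ^ t := fun t => (fac (show t ≤ t + 2 by omega)).comp (G t)
  have hf : ∀ {i j : ℕ} (h : i ≤ j), (Ideal.Quotient.factorₐ k (Ideal.pow_le_pow_right h)).comp (f j) = f i := by
    intro i j h
    refine AlgHom.ext fun x => ?_
    show fac h (fac (show j ≤ j + 2 by omega) ((G j) x)) = fac (show i ≤ i + 2 by omega) ((G i) x)
    rw [← hG h x]
    obtain ⟨a, ha⟩ := Ideal.Quotient.mk_surjective ((G j) x)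
    rw [← ha]; rfl
  let α₀ : R →ₐ[k] AdicCompletion m A := AdicCompletion.liftAlgHom m f hf
  have hα₀ : ∀ t x, AdicCompletion.evalₐ m t (α₀ x) = f t x := fun t x =>
    AdicCompletion.evalₐ_liftAlgHom m f hf t x
  have hmem : ∀ (t : ℕ) (x : R), x ∈ maximalIdeal R ^ t → f t x = 0 := by
    intro t x hx
    obtain ⟨a, ha⟩ := Ideal.Quotient.mk_surjective ((G t) x)
    have h1 : (G t) x ∈ M (t + 2) ^ t :=
      pow_le (β := (G t).toRingHom) (M := M (t + 2)) (Ideal.map_le_iff_le_comap.2 fun y hy => show (G t) y ∈ M (t + 2) from (hloc t y).2 hy) hx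
    rw [← ha, mk_mem_map_pow_iff m _ (by omega)] at h1
    show fac (show t ≤ t + 2 by omega) ((G t) x) = 0
    rw [← ha]; exact Ideal.Quotient.eq_zero_iff_mem.2 h1
  have hbij : Function.Bijective α₀ := by
    constructor
    · refine (injective_iff_map_eq_zero _).2 fun x hx => ?_
      refine IsHausdorff.haus (inferInstance : IsHausdorff (maximalIdeal R) R) x fun t => ?_
      rw [SModEq.zero, smul_eq_mul, Ideal.mul_top]
      refine hinj t x ?_ t (by omega)
      rw [← hG (show t ≤ t + 2 by omega) x]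
      exact (hα₀ (t + 2) x).symm.trans (by rw [hx, map_zero])
    · intro z
      choose a ha using fun t => Ideal.Quotient.mk_surjective (AdicCompletion.evalₐ m (t + 2) z)
      choose x hx using fun t => hsurj t (a t)
      have hcauchy : ∀ {i j : ℕ}, i ≤ j → x i ≡ x j [SMOD (maximalIdeal R ^ i • ⊤ : Ideal R)] := by
        intro i j h
        rw [SModEq.sub_mem, smul_eq_mul, Ideal.mul_top]
        refine hinj i _ ?_ i (by omega)
        rw [map_sub, hx, sub_eq_zero, ← hG h, hx, ha, ha, hfac_eval h z]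
      obtain ⟨L, hL⟩ := IsPrecomplete.prec (inferInstance : IsPrecomplete (maximalIdeal R) R) hcauchy
      refine ⟨L, AdicCompletion.ext_evalₐ fun t => ?_⟩
      have h1 : x t - L ∈ maximalIdeal R ^ t := by
        have := hL t
        rwa [SModEq.sub_mem, smul_eq_mul, Ideal.mul_top] at this
      have h2 := hmem t _ h1
      rw [map_sub, sub_eq_zero] at h2
      rw [hα₀, ← h2]
      show fac (show t ≤ t + 2 by omega) ((G t) (x t)) = _
      rw [hx, ha, hfac_eval' z]
  exact ⟨RingEquiv.ofBijective α₀ hbij, fun c => (α₀.commutes c).trans (IsScalarTower.algebraMap_apply k A _ c),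
    hα₀⟩
where
  hfac_eval {A : Type u} [CommRing A] [Algebra k A] {m : Ideal A} {i j : ℕ} (h : i ≤ j) (z : AdicCompletion m A) :
      Ideal.Quotient.factorₐ k (Ideal.pow_le_pow_right (show i + 2 ≤ j + 2 by omega))
        (AdicCompletion.evalₐ m (j + 2) z) = AdicCompletion.evalₐ m (i + 2) z := by
    obtain ⟨c, rfl⟩ := AdicCompletion.mk_surjective m A z
    simp only [AdicCompletion.evalₐ_mk]
    refine Ideal.Quotient.eq.2 ?_
    have := (c.property (show i + 2 ≤ j + 2 by omega)).symm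
    rw [SModEq.sub_mem, smul_eq_mul, Ideal.mul_top] at this
    exact this
  hfac_eval' {A : Type u} [CommRing A] [Algebra k A] {m : Ideal A} {t : ℕ} (z : AdicCompletion m A) :
      Ideal.Quotient.factorₐ k (Ideal.pow_le_pow_right (show t ≤ t + 2 by omega))
        (AdicCompletion.evalₐ m (t + 2) z) = AdicCompletion.evalₐ m t z := by
    obtain ⟨c, rfl⟩ := AdicCompletion.mk_surjective m A z
    simp only [AdicCompletion.evalₐ_mk]
    refine Ideal.Quotient.eq.2 ?_
    have := (c.property (show t ≤ t + 2 by omega)).symm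
    rw [SModEq.sub_mem, smul_eq_mul, Ideal.mul_top] at this
    exact this


/-- The step of lifting along a small extension. -/
theorem exists_versal_step (F : CommAlgCat.{u} k ⥤ Type u)
    {R : Type u} [CommRing R] [Algebra k R] [IsLocalRing R] (ξ : F.obj (CommAlgCat.of k R))
    (hvers : ∀ (B B₀ : Type u) [CommRing B] [Algebra k B] [IsLocalRing B] [IsArtinianRing B]
        [CommRing B₀] [Algebra k B₀] [IsLocalRing B₀] [IsArtinianRing B₀],
        Function.Surjective (fun c : k => residue B (algebraMap k B c)) →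
        ∀ (π : B →ₐ[k] B₀), Function.Surjective π →
          ∀ (g₀ : R →ₐ[k] B₀) (y : F.obj (CommAlgCat.of k B)),
            F.map (CommAlgCat.ofHom π) y = F.map (CommAlgCat.ofHom g₀) ξ →
              ∃ g : R →ₐ[k] B, π.comp g = g₀ ∧ F.map (CommAlgCat.ofHom g) ξ = y)
    {A : Type u} [CommRing A] [Algebra k A] [IsNoetherianRing A] (m : Ideal A) [m.IsMaximal]
    (hmres : Function.Surjective (fun c : k => Ideal.Quotient.mk m (algebraMap k A c)))
    (η : F.obj (CommAlgCat.of k A)) {i j : ℕ} (hi : 0 < i) (hij : i ≤ j) (g : R →ₐ[k] A ⧸ m ^ i)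
    (hg : F.map (CommAlgCat.ofHom g) ξ = F.map (CommAlgCat.ofHom (Ideal.Quotient.mkₐ k (m ^ i))) η) :
    ∃ g' : R →ₐ[k] A ⧸ m ^ j,
      (Ideal.Quotient.factorₐ k (Ideal.pow_le_pow_right hij)).comp g' = g ∧
      F.map (CommAlgCat.ofHom g') ξ = F.map (CommAlgCat.ofHom (Ideal.Quotient.mkₐ k (m ^ j))) η := by
  haveI := isLocalRing_quot m i hi
  haveI := isArtinianRing_quot m i hi
  haveI := isLocalRing_quot m j (hi.trans_le hij)
  haveI := isArtinianRing_quot m j (hi.trans_le hij)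
  have hresB : Function.Surjective (fun c : k => residue (A ⧸ m ^ j) (algebraMap k _ c)) := by
    intro z
    obtain ⟨w, rfl⟩ := Ideal.Quotient.mk_surjective z
    obtain ⟨a, rfl⟩ := Ideal.Quotient.mk_surjective w
    obtain ⟨c, hc⟩ := hmres (Ideal.Quotient.mk m a)
    refine ⟨c, Ideal.Quotient.eq.2 ?_⟩
    rw [← IsLocalRing.eq_maximalIdeal (isMaximal_map_quot m j (hi.trans_le hij)), ← Ideal.Quotient.mk_algebraMap, ← map_sub]
    exact Ideal.mem_map_of_mem _ (Ideal.Quotient.eq.1 hc)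
  refine hvers (A ⧸ m ^ j) (A ⧸ m ^ i) hresB _ (Ideal.Quotient.factor_surjective (Ideal.pow_le_pow_right hij)) g _ ?_
  rw [← Functor.map_comp_apply, ← CommAlgCat.ofHom_comp, hg]
  rfl

theorem factorₐ_factorₐ {A : Type u} [CommRing A] [Algebra k A] {I J K : Ideal A} (h₁ : I ≤ J) (h₂ : J ≤ K)
    (z : A ⧸ I) : Ideal.Quotient.factorₐ k h₂ (Ideal.Quotient.factorₐ k h₁ z) =
      Ideal.Quotient.factorₐ k (h₁.trans h₂) z := by
  obtain ⟨a, rfl⟩ := Ideal.Quotient.mk_surjective z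
  rfl

theorem factorₐ_self {A : Type u} [CommRing A] [Algebra k A] {I : Ideal A} (h : I ≤ I)
    (z : A ⧸ I) : Ideal.Quotient.factorₐ k h z = z := by
  obtain ⟨a, rfl⟩ := Ideal.Quotient.mk_surjective z
  rfl

/-- A compatible sequence from a step. -/
theorem exists_compatible_seq {R A : Type u} [CommRing R] [Algebra k R] [CommRing A] [Algebra k A] (m : Ideal A)
    (P : ∀ i, (R →ₐ[k] A ⧸ m ^ i) → Prop) (g₀ : R →ₐ[k] A ⧸ m ^ (0 + 2)) (h₀ : P _ g₀)
    (step : ∀ (i j : ℕ) (hi : 0 < i) (h : i ≤ j) (g : R →ₐ[k] A ⧸ m ^ i), P i g →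
      ∃ g' : R →ₐ[k] A ⧸ m ^ j, (Ideal.Quotient.factorₐ k (Ideal.pow_le_pow_right h)).comp g' = g ∧ P j g') :
    ∃ G : ∀ s, R →ₐ[k] A ⧸ m ^ (s + 2), G 0 = g₀ ∧ (∀ s, P _ (G s)) ∧
      ∀ {i j : ℕ} (h : i ≤ j) (x : R),
        Ideal.Quotient.factorₐ k (Ideal.pow_le_pow_right (show i + 2 ≤ j + 2 by omega)) (G j x) = G i x := by
  classical
  have step' : ∀ (s : ℕ) (g : {g : R →ₐ[k] A ⧸ m ^ (s + 2) // P _ g}),
      ∃ g' : {g : R →ₐ[k] A ⧸ m ^ (s + 1 + 2) // P _ g},
        (Ideal.Quotient.factorₐ k (Ideal.pow_le_pow_right (show s + 2 ≤ s + 1 + 2 by omega))).comp g'.1 = g.1 := by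
    intro s g
    obtain ⟨g', h1, h2⟩ := step (s + 2) (s + 1 + 2) (Nat.succ_pos _) (by omega) g.1 g.2
    exact ⟨⟨g', h2⟩, h1⟩
  choose next hnext using step'
  let G : ∀ s, {g : R →ₐ[k] A ⧸ m ^ (s + 2) // P _ g} := fun s => Nat.rec ⟨g₀, h₀⟩ (fun s g => next s g) s
  refine ⟨fun s => (G s).1, rfl, fun s => (G s).2, fun {i j} h x => ?_⟩
  induction j, h using Nat.le_induction with
  | base => exact factorₐ_self _ _
  | succ j hij ih =>
    have h1 := AlgHom.congr_fun (hnext j (G j)) x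
    refine Eq.trans ?_ ih
    dsimp only
    refine Eq.trans ?_ (congrArg _ h1)
    rw [AlgHom.comp_apply]
    exact (factorₐ_factorₐ (k := k) _ _ _).symm

theorem exists_algebraization (F : CommAlgCat.{u} k ⥤ Type u)
    (hF : ∀ (J : Type u) [SmallCategory J] [IsFiltered J], PreservesColimitsOfShape J F)
    (R : Type u) [CommRing R] [Algebra k R] [IsLocalRing R] [IsNoetherianRing R]
    [IsAdicComplete (maximalIdeal R) R]
    (hres : Function.Surjective (fun c : k => residue R (algebraMap k R c)))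
    (ξ : F.obj (CommAlgCat.of k R))
    (hvers : ∀ (B B₀ : Type u) [CommRing B] [Algebra k B] [IsLocalRing B] [IsArtinianRing B]
        [CommRing B₀] [Algebra k B₀] [IsLocalRing B₀] [IsArtinianRing B₀],
        Function.Surjective (fun c : k => residue B (algebraMap k B c)) →
        ∀ (π : B →ₐ[k] B₀), Function.Surjective π →
          ∀ (g₀ : R →ₐ[k] B₀) (y : F.obj (CommAlgCat.of k B)),
            F.map (CommAlgCat.ofHom π) y = F.map (CommAlgCat.ofHom g₀) ξ →
              ∃ g : R →ₐ[k] B, π.comp g = g₀ ∧ F.map (CommAlgCat.ofHom g) ξ = y) :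
    ∃ (A : Type u) (_ : CommRing A) (_ : Algebra k A) (_ : Algebra.FiniteType k A)
      (m : Ideal A) (_ : m.IsMaximal)
      (_ : Function.Surjective (fun c : k => Ideal.Quotient.mk m (algebraMap k A c)))
      (η : F.obj (CommAlgCat.of k A))
      (α : R ≃+* AdicCompletion m A),
      (∀ c : k, α (algebraMap k R c) = algebraMap A (AdicCompletion m A) (algebraMap k A c)) ∧
      ∀ (n : ℕ) (ψ : R →ₐ[k] A ⧸ m ^ (n + 1)),
        ψ.toRingHom = (AdicCompletion.evalₐ m (n + 1) :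
            AdicCompletion m A →ₐ[A] A ⧸ m ^ (n + 1)).toRingHom.comp α.toRingHom →
          F.map (CommAlgCat.ofHom ψ) ξ = F.map (CommAlgCat.ofHom (Ideal.Quotient.mkₐ k (m ^ (n + 1)))) η := by
  classical
  obtain ⟨A, _, _, hA, m, hm, hmres, n, β₁, β₂, hs₁, hs₂, hiff, η, φ, hφ, hηξ⟩ :=
    exists_approximation F hF R hres ξ 1
  haveI := hA
  haveI := hm
  haveI : IsNoetherianRing A := Algebra.FiniteType.isNoetherianRing k A
  have hbase : ∀ t, t = 1 + 1 → ∃ g : R →ₐ[k] A ⧸ m ^ t, (∀ p, g (β₁ p) = Ideal.Quotient.mk _ (β₂ p)) ∧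
      F.map (CommAlgCat.ofHom g) ξ = F.map (CommAlgCat.ofHom (Ideal.Quotient.mkₐ k (m ^ t))) η := by
    rintro t rfl
    exact ⟨_, hφ, hηξ⟩
  obtain ⟨g₀, hg₀, hg₀ξ⟩ := hbase (0 + 2) rfl
  obtain ⟨G, hG0, hGP, hG⟩ := exists_compatible_seq m
    (fun i g => F.map (CommAlgCat.ofHom g) ξ = F.map (CommAlgCat.ofHom (Ideal.Quotient.mkₐ k (m ^ i))) η)
    g₀ hg₀ξ (fun i j hi h g hg => exists_versal_step F ξ hvers m hmres η hi h g hg)
  obtain ⟨α, hαc, hα⟩ := exists_formal_iso m hmres β₁ β₂ hs₁ hs₂ hiff G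
    (fun p => by rw [hG0]; exact hg₀ p) hG
  refine ⟨A, inferInstance, inferInstance, inferInstance, m, hm, hmres, η, α, hαc, fun t ψ hψ => ?_⟩
  have hψ' : ψ = (Ideal.Quotient.factorₐ k (Ideal.pow_le_pow_right (show t + 1 ≤ t + 1 + 2 by omega))).comp (G (t + 1)) :=
    AlgHom.ext fun x => (RingHom.congr_fun hψ x).trans (hα (t + 1) x)
  subst hψ'
  rw [CommAlgCat.ofHom_comp, Functor.map_comp_apply, hGP (t + 1), ← Functor.map_comp_apply, ← CommAlgCat.ofHom_comp]
  rfl

end Groth.Agent.H9Algz
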